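import Mathlib
import Cfsg.Agent.H989.Gs.Gen
import Cfsg.Agent.UGT.U2.FOne.OrthJ
import Cfsg.Agent.Involutions.BaerSuzuki
import Cfsg.Agent.LieClassical.DicksonWeak
import Cfsg.Agent.LieClassical.OrthFinite
import Cfsg.Agent.LieClassical.OrthCount
import Cfsg.Agent.LieClassical.QuadCount
import Cfsg.Agent.ClassicalGeometry.WittQuad
import Cfsg.Agent.H75.WittE
import Cfsg.Agent.LieClassical.OrthSimple
import Cfsg.Agent.LieClassical.OrthForms
import Cfsg.Agent.H160.QSpin
import Cfsg.Agent.FastGrp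
import Cfsg.Agent.Prune
set_option linter.all false

section
prune_inst 0x7f00000000000000000000000000000000000000000000000000000000000000000000000000000000000000000000000000000000000000000000000000000000000000000000000000000000000000003fffffffffffffffffffffffffffbeffbdffffffff

-- part: H989/Fx/OmE
section
set_option linter.all false
open scoped Cfsg.Agent.FastGrp

/-!
# S5719, orthogonal groups, `q` odd: fundamental involutions and Siegel groups (helper989)

* `Fund Q z` : `z ∈ E Q` is `-1` on a nondegenerate 4-space of plus type and `1` on its orthogonal space;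
* `card_RS` : the order of the Siegel group;
* `exists_sing` : a subgroup `X` of `E Q` without fundamental involutions meets the Siegel group of some
  singular vector in at most `q²` elements.
-/

set_option autoImplicit false
set_option maxHeartbeats 400000
set_option linter.unusedSimpArgs false
set_option linter.unusedVariables false
set_option linter.unusedSectionVars false

namespace Cfsg.Agent.H989.Fx

open QuadraticMap Cfsg.Agent.LieClassical Cfsg.Agent.LieClassical.OrthCore Cfsg.Agent.LieClassical.OrthTrans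
  Cfsg.Agent.LieClassical.OrthSimple Cfsg.Agent.AutOrth.SemiSim Cfsg.Agent.AutOrth.Gen
  Cfsg.Agent.H989.Gs.Gen
open Cfsg.Agent.UGT.U2.FOne.Orth (Four tl tl_comb siegel_eq_tl)
open Cfsg.Agent.LieClassical.SLTwoUnipotent (u l coe_u coe_l)
open Matrix (SpecialLinearGroup)

variable {F V : Type*} [Field F] [AddCommGroup V] [Module F V] {Q : QuadraticForm F V}

/-! ### Fundamental involutions -/

/-- `z` is `-1` on a nondegenerate 4-space of plus type and `1` on its orthogonal space -/
def Fund (Q : QuadraticForm F V) (z : ↥(E Q)) : Prop :=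
  ∃ e₁ f₁ e₂ f₂ : V, Four Q e₁ f₁ e₂ f₂ ∧ ap z e₁ = -e₁ ∧ ap z f₁ = -f₁ ∧ ap z e₂ = -e₂ ∧ ap z f₂ = -f₂ ∧
    ∀ v, polar Q e₁ v = 0 → polar Q f₁ v = 0 → polar Q e₂ v = 0 → polar Q f₂ v = 0 → ap z v = v

theorem fund_ap {z : ↥(E Q)} {e₁ f₁ e₂ f₂ : V} (h : Four Q e₁ f₁ e₂ f₂) (h1 : ap z e₁ = -e₁)
    (h2 : ap z f₁ = -f₁) (h3 : ap z e₂ = -e₂) (h4 : ap z f₂ = -f₂)
    (h5 : ∀ v, polar Q e₁ v = 0 → polar Q f₁ v = 0 → polar Q e₂ v = 0 → polar Q f₂ v = 0 → ap z v = v) (v : V) :
    ap z v = v - (2 : F) • (polar Q f₁ v • e₁ + polar Q e₁ v • f₁ + (polar Q f₂ v • e₂ + polar Q e₂ v • f₂)) := by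
  obtain ⟨p1, p2, p3, p4, p5, p6, p7, p8, p9, p10, p11, p12, p13, p14, p15, p16⟩ := h.pols
  set d := polar Q f₁ v • e₁ + polar Q e₁ v • f₁ + (polar Q f₂ v • e₂ + polar Q e₂ v • f₂) with hd
  have hd' : ap z d = -d := by
    rw [hd]
    simp only [ap_add, ap_smul, h1, h2, h3, h4]
    module
  have hv : ap z (v - d) = v - d := by
    apply h5
    · rw [polar_sub_right, hd]
      simp only [polar_add_right, polar_smul_right, smul_eq_mul, p1, p5, p9, p11]
      ring
    · rw [polar_sub_right, hd]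
      simp only [polar_add_right, polar_smul_right, smul_eq_mul, p2, p6, p13, p15]
      ring
    · rw [polar_sub_right, hd]
      simp only [polar_add_right, polar_smul_right, smul_eq_mul, p3, p7, p10, p14]
      ring
    · rw [polar_sub_right, hd]
      simp only [polar_add_right, polar_smul_right, smul_eq_mul, p4, p8, p12, p16]
      ring
  have h6 : ap z v = ap z (v - d) + ap z d := by rw [← ap_add, sub_add_cancel]
  rw [h6, hv, hd']
  module

theorem Fund.sq {z : ↥(E Q)} (hz : Fund Q z) : z * z = 1 := by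
  obtain ⟨e₁, f₁, e₂, f₂, h, h1, h2, h3, h4, h5⟩ := hz
  obtain ⟨p1, p2, p3, p4, p5, p6, p7, p8, p9, p10, p11, p12, p13, p14, p15, p16⟩ := h.pols
  apply ext_ap
  intro v
  rw [ap_mul, ap_one, fund_ap h h1 h2 h3 h4 h5 v]
  simp only [ap_sub, ap_smul, ap_add, h1, h2, h3, h4]
  rw [fund_ap h h1 h2 h3 h4 h5 v]
  module

theorem Four.map {e₁ f₁ e₂ f₂ : V} (h : Four Q e₁ f₁ e₂ f₂) (g : ↥(E Q)) :
    Four Q (ap g e₁) (ap g f₁) (ap g e₂) (ap g f₂) where
  h1 := ⟨by rw [Q_ap, h.h1.left], by rw [Q_ap, h.h1.right], by rw [polar_ap, h.h1.pair]⟩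
  h2 := ⟨by rw [Q_ap, h.h2.left], by rw [Q_ap, h.h2.right], by rw [polar_ap, h.h2.pair]⟩
  ee := by rw [polar_ap, h.ee]
  ef := by rw [polar_ap, h.ef]
  fe := by rw [polar_ap, h.fe]
  ff := by rw [polar_ap, h.ff]

theorem Fund.conj {z : ↥(E Q)} (hz : Fund Q z) (g : ↥(E Q)) : Fund Q (g * z * g⁻¹) := by
  obtain ⟨e₁, f₁, e₂, f₂, h, h1, h2, h3, h4, h5⟩ := hz
  have key : ∀ v, ap (g * z * g⁻¹) (ap g v) = ap g (ap z v) := by
    intro v
    rw [ap_mul, ap_mul, ap_inv_ap]
  refine ⟨_, _, _, _, Four.map h g, ?_, ?_, ?_, ?_, ?_⟩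
  · rw [key, h1, ap_neg]
  · rw [key, h2, ap_neg]
  · rw [key, h3, ap_neg]
  · rw [key, h4, ap_neg]
  · intro v k1 k2 k3 k4
    have hv : v = ap g (ap g⁻¹ v) := (ap_ap_inv g v).symm
    rw [hv, polar_ap] at k1 k2 k3 k4
    rw [hv, key, h5 _ k1 k2 k3 k4]

theorem Fund.ne_one (h2' : (2 : F) ≠ 0) {z : ↥(E Q)} (hz : Fund Q z) : z ≠ 1 := by
  rintro rfl
  obtain ⟨e₁, f₁, e₂, f₂, h, h1, -⟩ := hz
  rw [ap_one] at h1
  have h3 : (2 : F) • e₁ = 0 := by rw [two_smul]; nth_rewrite 2 [h1]; exact add_neg_cancel e₁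
  have h4 : e₁ = 0 := (smul_eq_zero.1 h3).resolve_left h2'
  have h5 := h.h1.pair
  rw [h4, polar_zero_left] at h5
  exact zero_ne_one h5

theorem fund_of_four {e₁ f₁ e₂ f₂ : V} (h : Four Q e₁ f₁ e₂ f₂) {A : _root_.Matrix.SpecialLinearGroup (Fin 2) F}
    (hA : A.1 = -1) : Fund Q (h.rhoE A) := by
  have a00 : A.1 0 0 = -1 := by rw [hA]; simp
  have a01 : A.1 0 1 = 0 := by rw [hA]; simp
  have a10 : A.1 1 0 = 0 := by rw [hA]; simp
  have a11 : A.1 1 1 = -1 := by rw [hA]; simp
  have key : ∀ v, ap (h.rhoE A) v = h.phi A v := fun v => rfl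
  obtain ⟨p1, p2, p3, p4, p5, p6, p7, p8, p9, p10, p11, p12, p13, p14, p15, p16⟩ := h.pols
  refine ⟨e₁, f₁, e₂, f₂, h, ?_, ?_, ?_, ?_, ?_⟩
  · rw [key]
    unfold Four.phi
    rw [a00, a01, a10, a11, p1, p6, p10, p12]
    module
  · rw [key]
    unfold Four.phi
    rw [a00, a01, a10, a11, p2, p5, p14, p16]
    module
  · rw [key]
    unfold Four.phi
    rw [a00, a01, a10, a11, p9, p13, p3, p8]
    module
  · rw [key]
    unfold Four.phi
    rw [a00, a01, a10, a11, p11, p15, p4, p7]
    module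
  · intro v k1 k2 k3 k4
    rw [key]
    unfold Four.phi
    rw [k1, k2, k3, k4]
    module

/-! ### The Siegel group -/

/-- the space orthogonal to a pair -/
def Dp (Q : QuadraticForm F V) (e f : V) : Submodule F V where
  carrier := {v | polar Q e v = 0 ∧ polar Q f v = 0}
  add_mem' {a b} ha hb := by
    change polar Q e (a + b) = 0 ∧ polar Q f (a + b) = 0
    rw [polar_add_right, polar_add_right, ha.1, ha.2, hb.1, hb.2, add_zero]
    exact ⟨rfl, rfl⟩
  zero_mem' := by
    change polar Q e 0 = 0 ∧ polar Q f 0 = 0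
    rw [polar_zero_right, polar_zero_right]
    exact ⟨rfl, rfl⟩
  smul_mem' c a ha := by
    change polar Q e (c • a) = 0 ∧ polar Q f (c • a) = 0
    rw [polar_smul_right, polar_smul_right, ha.1, ha.2, smul_zero]
    exact ⟨rfl, rfl⟩

theorem mem_Dp {e f v : V} : v ∈ Dp Q e f ↔ polar Q e v = 0 ∧ polar Q f v = 0 := Iff.rfl

theorem S_inj {e f : V} (h : Hyp Q e f) {w w' : V} (hw : w ∈ Dp Q e f) (hw' : w' ∈ Dp Q e f)
    (H : S Q e w = S Q e w') : w = w' := by
  have h1 : ap (S Q e w) f = ap (S Q e w') f := by rw [H]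
  rw [S_ap h.left hw.1, S_ap h.left hw'.1, h.pair, polar_comm Q w f, polar_comm Q w' f, hw.2, hw'.2] at h1
  have h2 : w - w' = (Q w - Q w') • e := by
    have : w - w' = (f + (1 : F) • w - (0 : F) • e - (Q w * 1) • e) - (f + (1 : F) • w' - (0 : F) • e - (Q w' * 1) • e)
        + (Q w - Q w') • e := by module
    rw [this, h1]
    module
  have h3 : polar Q f (w - w') = 0 := by rw [polar_sub_right, hw.2, hw'.2, sub_zero]
  rw [h2, polar_smul_right, polar_comm Q f e, h.pair, smul_eq_mul, mul_one] at h3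
  rw [h3, zero_smul] at h2
  exact sub_eq_zero.1 h2

theorem finrank_Dp [FiniteDimensional F V] {e f : V} (h : Hyp Q e f) :
    Module.finrank F (Dp Q e f) + 2 = Module.finrank F V := by
  let L : V →ₗ[F] F × F := (polarBilin Q e).prod (polarBilin Q f)
  have hL : ∀ v, L v = (polar Q e v, polar Q f v) := fun v => rfl
  have hker : LinearMap.ker L = Dp Q e f := by
    ext v
    rw [LinearMap.mem_ker, hL, mem_Dp, Prod.mk_eq_zero]
  have hrange : LinearMap.range L = ⊤ := by
    rw [eq_top_iff]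
    rintro ⟨a, b⟩ _
    refine ⟨a • f + b • e, ?_⟩
    rw [hL, polar_add_right, polar_add_right, polar_smul_right, polar_smul_right, polar_smul_right, polar_smul_right,
      h.pair, polar_self_of_sing h.left, polar_self_of_sing h.right, polar_comm Q f e, h.pair]
    simp
  have h1 := LinearMap.finrank_range_add_finrank_ker L
  rw [hker, hrange, finrank_top, Module.finrank_prod, Module.finrank_self] at h1
  omega

/-! ### `SL₂` -/

theorem coe_one_sub {A : _root_.Matrix.SpecialLinearGroup (Fin 2) F} {p : ℕ} [Fact p.Prime] [CharP F p] {n : ℕ}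
    (hA : A ^ p ^ n = 1) : A.1.trace = 2 := by
  have h1 : (A.1 - 1) ^ p ^ n = 0 := by
    rw [sub_pow_char_pow_of_commute p n (Commute.one_right A.1), one_pow]
    have : A.1 ^ p ^ n = 1 := by
      have := congrArg Subtype.val hA
      simpa only [_root_.Matrix.SpecialLinearGroup.coe_pow, _root_.Matrix.SpecialLinearGroup.coe_one] using this
    rw [this, sub_self]
  have h2 : IsNilpotent (A.1 - 1) := ⟨_, h1⟩
  have h3 := (Matrix.isNilpotent_trace_of_isNilpotent h2).eq_zero
  rw [Matrix.trace_sub, Matrix.trace_one, Fintype.card_fin] at h3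
  rw [sub_eq_zero.1 h3]
  norm_num

/-- **two unipotent elements of `SL₂` with different fixed points generate `-1`** -/
theorem exists_neg_one [Finite F] (h2 : (2 : F) ≠ 0) {H : Subgroup (_root_.Matrix.SpecialLinearGroup (Fin 2) F)} {a c : F}
    (ha : a ≠ 0) (hc : c ≠ 0) (h1 : u a ∈ H) (h3 : l c ∈ H) : ∃ A ∈ H, A.1 = -1 := by
  cases nonempty_fintype F
  obtain ⟨p, hp⟩ := CharP.exists F
  have hpp : Fact p.Prime := ⟨CharP.char_is_prime F p⟩
  have hp2 : p ≠ 2 := by
    rintro rfl
    exact h2 (by exact_mod_cast CharP.cast_eq_zero F 2)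
  have hupow : ∀ n : ℕ, (u a : _root_.Matrix.SpecialLinearGroup (Fin 2) F) ^ n = u (n * a) := by
    intro n
    induction n with
    | zero => rw [pow_zero, Nat.cast_zero, zero_mul, SLTwoUnipotent.u_zero]
    | succ n ih => rw [pow_succ, ih, ← SLTwoUnipotent.u_add, Nat.cast_succ, add_mul, one_mul]
  have hlpow : ∀ n : ℕ, (l c : _root_.Matrix.SpecialLinearGroup (Fin 2) F) ^ n = l (n * c) := by
    intro n
    induction n with
    | zero => rw [pow_zero, Nat.cast_zero, zero_mul, SLTwoUnipotent.l_zero]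
    | succ n ih => rw [pow_succ, ih, ← SLTwoUnipotent.l_add, Nat.cast_succ, add_mul, one_mul]
  have hsyl : 1 < Nat.card (Sylow p H) := by
    by_contra hcon
    have hcard : Nat.card (Sylow p H) = 1 := by
      have : 0 < Nat.card (Sylow p H) := Nat.card_pos
      omega
    have hsub : Subsingleton (Sylow p H) := (Nat.card_eq_one_iff_unique.1 hcard).1
    obtain ⟨P⟩ : Nonempty (Sylow p H) := Sylow.nonempty
    have hmem : ∀ x : H, x ^ p = 1 → x ∈ P := by
      intro x hx
      have h4 : IsPGroup p (Subgroup.zpowers x) := by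
        apply IsPGroup.iff_card.2
        rw [Nat.card_zpowers]
        exact (Nat.dvd_prime_pow hpp.out).1 (by rw [pow_one]; exact orderOf_dvd_of_pow_eq_one hx) |>.imp fun k hk => hk.2
      obtain ⟨P', hP'⟩ := h4.exists_le_sylow
      rw [Subsingleton.elim P P']
      exact hP' (Subgroup.mem_zpowers x)
    have hu : (⟨u a, h1⟩ : H) ∈ P := hmem _ (Subtype.ext (by
      change (u a : _root_.Matrix.SpecialLinearGroup (Fin 2) F) ^ p = 1
      rw [hupow, CharP.cast_eq_zero, zero_mul, SLTwoUnipotent.u_zero]))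
    have hl : (⟨l c, h3⟩ : H) ∈ P := hmem _ (Subtype.ext (by
      change (l c : _root_.Matrix.SpecialLinearGroup (Fin 2) F) ^ p = 1
      rw [hlpow, CharP.cast_eq_zero, zero_mul, SLTwoUnipotent.l_zero]))
    have hul := P.mul_mem hu hl
    obtain ⟨n, hn⟩ := P.isPGroup' ⟨_, hul⟩
    have h5 : (u a * l c : _root_.Matrix.SpecialLinearGroup (Fin 2) F) ^ p ^ n = 1 := by
      have := congrArg (fun x => ((x : P) : H)) hn
      have := congrArg Subtype.val this
      simpa only [_root_.MulMemClass.mk_mul_mk, _root_.SubmonoidClass.mk_pow, _root_.OneMemClass.coe_one] using this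
    have h6 := coe_one_sub h5
    have h7 : (u a * l c : _root_.Matrix.SpecialLinearGroup (Fin 2) F).1.trace = 2 + a * c := by
      rw [SLTwoUnipotent.coe_mul, coe_u, coe_l, Matrix.trace_fin_two]
      simp only [Matrix.mul_apply, Fin.sum_univ_two, _root_.Fin.isValue, _root_.Matrix.of_apply, _root_.Matrix.cons_val', _root_.Matrix.cons_val_fin_one, _root_.Matrix.cons_val_zero, _root_.mul_one, _root_.Matrix.cons_val_one, _root_.MulZeroClass.mul_zero, _root_.zero_add]
      ring
    rw [h7] at h6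
    exact mul_ne_zero ha hc (by linear_combination h6)
  obtain ⟨K, hK, ⟨φ⟩⟩ := DicksonWeak.exists_subgroup_equiv p hp2 H hsyl
  -- the central involution of `SL₂(p)`
  let j : _root_.Matrix.SpecialLinearGroup (Fin 2) (ZMod p) := ⟨-1, by simp only [Matrix.det_neg, _root_.Fintype.card_fin, _root_.even_two, _root_.Even.neg_pow, _root_.one_pow, _root_.Matrix.det_one, _root_.mul_one]⟩
  have hj2 : j * j = 1 := Subtype.ext (by change (-1 : Matrix (Fin 2) (Fin 2) (ZMod p)) * -1 = 1; simp)
  have hj1 : j ≠ 1 := by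
    intro h4
    have h5 := congrArg (fun x : _root_.Matrix.SpecialLinearGroup (Fin 2) (ZMod p) => x.1 0 0) h4
    have h6 : (-1 : ZMod p) = 1 := by simpa [j] using h5
    have h7 : (2 : ZMod p) = 0 := by linear_combination -h6
    have h8 : (p : ℕ) ∣ 2 := (ZMod.natCast_eq_zero_iff 2 p).1 (by exact_mod_cast h7)
    exact hp2 ((Nat.prime_dvd_prime_iff_eq hpp.out Nat.prime_two).1 h8)
  set k := (φ.symm j : K) with hk
  have hk2 : (k : _root_.Matrix.SpecialLinearGroup (Fin 2) F) * k = 1 := by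
    have : k * k = 1 := by rw [hk, ← map_mul, hj2, map_one]
    exact congrArg Subtype.val this
  have hk1 : (k : _root_.Matrix.SpecialLinearGroup (Fin 2) F) ≠ 1 := by
    intro h4
    apply hj1
    have h5 : k = 1 := Subtype.ext h4
    rw [hk, map_eq_one_iff _ φ.symm.injective] at h5
    exact h5
  refine ⟨k, hK k.2, ?_⟩
  -- Cayley–Hamilton
  set M := (k : _root_.Matrix.SpecialLinearGroup (Fin 2) F).1 with hM
  have hMM : M * M = 1 := congrArg Subtype.val hk2
  have hdet : M 0 0 * M 1 1 - M 0 1 * M 1 0 = 1 := by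
    have := (k : _root_.Matrix.SpecialLinearGroup (Fin 2) F).2
    rwa [Matrix.det_fin_two] at this
  have e00 : M 0 0 * M 0 0 + M 0 1 * M 1 0 = 1 := by
    have := congrFun (congrFun hMM 0) 0
    simpa only [Matrix.mul_apply, Fin.sum_univ_two, _root_.Fin.isValue, _root_.Matrix.one_apply_eq] using this
  have e01 : M 0 0 * M 0 1 + M 0 1 * M 1 1 = 0 := by
    have := congrFun (congrFun hMM 0) 1
    simpa only [Matrix.mul_apply, Fin.sum_univ_two, _root_.Fin.isValue, _root_.ne_eq, _root_.zero_ne_one, _root_.not_false_eq_true, _root_.Matrix.one_apply_ne] using this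
  have e10 : M 1 0 * M 0 0 + M 1 1 * M 1 0 = 0 := by
    have := congrFun (congrFun hMM 1) 0
    simpa only [Matrix.mul_apply, Fin.sum_univ_two, _root_.Fin.isValue, _root_.ne_eq, _root_.one_ne_zero, _root_.not_false_eq_true, _root_.Matrix.one_apply_ne] using this
  have e11 : M 1 0 * M 0 1 + M 1 1 * M 1 1 = 1 := by
    have := congrFun (congrFun hMM 1) 1
    simpa only [Matrix.mul_apply, Fin.sum_univ_two, _root_.Fin.isValue, _root_.Matrix.one_apply_eq] using this
  have t0 : M 0 0 * (M 0 0 + M 1 1) = 2 := by linear_combination e00 + hdet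
  have t1 : M 1 1 * (M 0 0 + M 1 1) = 2 := by linear_combination e11 + hdet
  have ht : M 0 0 + M 1 1 ≠ 0 := by
    intro h0
    rw [h0, mul_zero] at t0
    exact h2 t0.symm
  have m01 : M 0 1 = 0 := (mul_eq_zero.1 (show M 0 1 * (M 0 0 + M 1 1) = 0 by linear_combination e01)).resolve_right ht
  have m10 : M 1 0 = 0 := (mul_eq_zero.1 (show M 1 0 * (M 0 0 + M 1 1) = 0 by linear_combination e10)).resolve_right ht
  have m0011 : M 0 0 = M 1 1 := mul_right_cancel₀ ht (t0.trans t1.symm)
  rw [m01, zero_mul, add_zero] at e00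
  have m00 : M 0 0 = -1 := by
    rcases mul_self_eq_one_iff.1 e00 with h5 | h5
    · exfalso
      apply hk1
      apply Subtype.ext
      change M = 1
      ext i j
      fin_cases i <;> fin_cases j
      · simpa using h5
      · simpa using m01
      · simpa using m10
      · simpa using (m0011 ▸ h5)
    · exact h5
  ext i j
  fin_cases i <;> fin_cases j
  · simpa using m00
  · simpa using m01
  · simpa using m10
  · simpa using (m0011 ▸ m00)

end Cfsg.Agent.H989.Fx
end

section
prune_inst 0xbffdfebbfceddfdfff7e7fa69ecffc3b931fffa6dff943ffe06bff0bdf179209456b8d89e012fe1ef7e21410b87853fdfffeffe26bf87ffffd1ff41ffbee4fe5f7b508511c8cb40f340fff03f0778a7f000000000000000000000000000000000200000000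

-- part: H989/Fx/Ty
section
prune_inst 0x200040310002000018001002000004480005000000000028400d4200004228890220410a8004000002800010000000001000000000000000000000000101208000120c11000108800009000000000000000000000000000000000000000000000000000
set_option linter.all false
open scoped Cfsg.Agent.FastGrp

/-!
# S5719: types and orders of orthogonal groups, coordinate free (helper989)

* `Ty Q n ε` : `Q` is nondegenerate of dimension `n` and type `ε` (`0` if `n` is odd, `1` or `-1` if `n` is even);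
* `exists_ty` : every nondegenerate form has a type;
* `Osum Q U W` : `V = U ⊥ W`; `card_stab`, `card_fix` : stabilisers in `O Q`;
* `Ty.card_odd`, `Ty.card_even` : the order of `O Q`.
-/

set_option autoImplicit false
set_option maxHeartbeats 400000
set_option linter.unusedSimpArgs false
set_option linter.unusedVariables false
set_option linter.unusedSectionVars false

namespace Cfsg.Agent.H989.Fx

open QuadraticMap Cfsg.Agent.LieClassical Cfsg.Agent.LieClassical.OrthCore Cfsg.Agent.LieClassical.OrthTrans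
open Cfsg.Agent.LieClassical.OrthCount (OG OGcongr hypSum hypSum_apply polar_hypSum card_OG_hypSum)
open Cfsg.Agent.H75.OrthIdx (nondegenerate_of_nondeg)

variable {F V : Type*} [Field F] [AddCommGroup V] [Module F V] {Q : QuadraticForm F V}

/-! ### Restriction, congruence -/

/-- the restricted form -/
abbrev rU (Q : QuadraticForm F V) (U : Submodule F V) : QuadraticForm F U := Q.comp U.subtype

theorem rU_apply {U : Submodule F V} (u : U) : rU Q U u = Q (u : V) := rfl

theorem polar_rU {U : Submodule F V} (u v : U) : polar (rU Q U) u v = polar Q (u : V) v := by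
  simp only [polar, rU_apply, Submodule.coe_add]

/-- the number of singular vectors -/
noncomputable def zn (Q : QuadraticForm F V) : ℕ := Nat.card {v : V // Q v = 0}

section congr

variable {W : Type*} [AddCommGroup W] [Module F W] {Q' : QuadraticForm F W}

theorem zn_congr (e : W ≃ₗ[F] V) (he : ∀ w, Q (e w) = Q' w) : zn Q = zn Q' := by
  refine Nat.card_congr ?_
  refine (Equiv.subtypeEquiv e.toEquiv fun w => ?_).symm
  change Q' w = 0 ↔ Q (e w) = 0
  rw [he]

theorem card_O_eq_OG : Nat.card ↥(O Q) = Nat.card ↥(OG Q) := by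
  refine Nat.card_congr (Equiv.subtypeEquivRight fun g => ?_)
  exact Iff.rfl

theorem card_O_congr (e : W ≃ₗ[F] V) (he : ∀ w, Q (e w) = Q' w) : Nat.card ↥(O Q) = Nat.card ↥(O Q') := by
  rw [card_O_eq_OG, card_O_eq_OG]
  exact (Nat.card_congr (OGcongr e he).toEquiv).symm

theorem nondeg_congr (e : W ≃ₗ[F] V) (he : ∀ w, Q (e w) = Q' w) (hQ : Nondeg Q) : Nondeg Q' := by
  intro x hx
  have h1 : ∀ a b, polar Q (e a) (e b) = polar Q' a b := by
    intro a b
    simp only [polar, ← map_add, he]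
  have h2 : e x = 0 := by
    apply hQ
    intro y
    obtain ⟨y, rfl⟩ := e.surjective y
    rw [h1, hx]
  exact (LinearEquiv.map_eq_zero_iff e).1 h2

end congr

/-! ### Splitting a hyperbolic pair -/

theorem polar_dec {e f : V} (h : Hyp Q e f) (a b : F) {w : V} (hw : w ∈ Dp Q e f) :
    Q (w + (a • e + b • f)) = Q w + a * b := by
  have h1 : polar Q w e = 0 := by rw [polar_comm]; exact hw.1
  have h2 : polar Q w f = 0 := by rw [polar_comm]; exact hw.2
  rw [Q_add, Q_add, QuadraticMap.map_smul, QuadraticMap.map_smul]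
  simp only [polar_add_right, polar_smul_right, polar_smul_left, h1, h2, h.left, h.right, h.pair, smul_eq_mul]
  ring

/-- `V = Dp ⊥ ⟨e, f⟩` -/
noncomputable def dec {e f : V} (h : Hyp Q e f) : (Dp Q e f × F × F) ≃ₗ[F] V where
  toFun x := (x.1 : V) + (x.2.1 • e + x.2.2 • f)
  map_add' x y := by
    simp only [Prod.fst_add, Prod.snd_add, Submodule.coe_add]
    module
  map_smul' c x := by
    simp only [Prod.smul_fst, Prod.smul_snd, Submodule.coe_smul, smul_eq_mul, RingHom.id_apply]
    module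
  invFun v := (⟨v - (polar Q f v • e + polar Q e v • f), by
    constructor
    · rw [polar_sub_right, polar_add_right, polar_smul_right, polar_smul_right, polar_self_of_sing h.left, h.pair]
      simp
    · rw [polar_sub_right, polar_add_right, polar_smul_right, polar_smul_right, polar_self_of_sing h.right,
        polar_comm Q f e, h.pair]
      simp⟩, polar Q f v, polar Q e v)
  left_inv x := by
    obtain ⟨⟨w, hw⟩, a, b⟩ := x
    have h1 : polar Q f (w + (a • e + b • f)) = a := by
      rw [polar_add_right, hw.2, polar_add_right, polar_smul_right, polar_smul_right, polar_self_of_sing h.right,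
        polar_comm Q f e, h.pair]
      simp
    have h2 : polar Q e (w + (a • e + b • f)) = b := by
      rw [polar_add_right, hw.1, polar_add_right, polar_smul_right, polar_smul_right, polar_self_of_sing h.left,
        h.pair]
      simp
    refine Prod.ext (Subtype.ext ?_) (Prod.ext h1 h2)
    change w + (a • e + b • f) - (polar Q f (w + (a • e + b • f)) • e + polar Q e (w + (a • e + b • f)) • f) = w
    rw [h1, h2]
    abel
  right_inv v := by
    change v - (polar Q f v • e + polar Q e v • f) + (polar Q f v • e + polar Q e v • f) = v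
    abel

theorem dec_apply {e f : V} (h : Hyp Q e f) (x : Dp Q e f × F × F) :
    Q (dec h x) = hypSum (rU Q (Dp Q e f)) x := by
  rw [hypSum_apply]
  exact polar_dec h _ _ x.1.2

theorem nondeg_Dp {e f : V} (h : Hyp Q e f) (hQ : Nondeg Q) : Nondeg (rU Q (Dp Q e f)) := by
  intro x hx
  apply Subtype.ext
  apply hQ
  intro y
  obtain ⟨⟨w, a, b⟩, rfl⟩ := (dec h).surjective y
  change polar Q (x : V) ((w : V) + (a • e + b • f)) = 0
  have h1 : polar Q (x : V) e = 0 := by rw [polar_comm]; exact x.2.1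
  have h2 : polar Q (x : V) f = 0 := by rw [polar_comm]; exact x.2.2
  rw [polar_add_right, polar_add_right, polar_smul_right, polar_smul_right, h1, h2, ← polar_rU, hx]
  simp

theorem zn_hypSum {W : Type*} [AddCommGroup W] [Module F W] [Finite F] [Finite W] (R : QuadraticForm F W) :
    (zn (hypSum R) : ℤ) = Nat.card W * ((Nat.card F : ℤ) - 1) + Nat.card F * zn R := by
  cases nonempty_fintype F
  cases nonempty_fintype W
  classical
  have h1 := QuadCount.card_sum (F := F) 1 (fun w : W => R w)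
  have h2 : Nat.card {p : (Fin 1 ⊕ Fin 1 → F) × W // Cfsg.quadFormPlus 1 F p.1 + R p.2 = 0} = zn (hypSum R) := by
    refine Nat.card_congr (Equiv.subtypeEquiv ?_ ?_)
    · exact (Equiv.prodComm _ _).trans (Equiv.prodCongr (Equiv.refl W)
        ((Equiv.sumArrowEquivProdArrow _ _ _).trans (Equiv.prodCongr (Equiv.funUnique _ _) (Equiv.funUnique _ _))))
    · rintro ⟨p, w⟩
      rw [hypSum_apply]
      change (∑ i : Fin 1, p (Sum.inl i) * p (Sum.inr i)) + R w = 0 ↔ R w + p (Sum.inl 0) * p (Sum.inr 0) = 0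
      rw [Fin.sum_univ_one, add_comm]
  rw [h2] at h1
  have h3 : Nat.card {w : W // R w = 0} = zn R := rfl
  rw [h3] at h1
  have hq : 0 < Fintype.card F := Fintype.card_pos
  rw [Nat.card_eq_fintype_card (α := F), Nat.card_eq_fintype_card (α := W)]
  have h4 : (Fintype.card F : ℤ) * (zn (hypSum R) : ℤ) + Fintype.card W * Fintype.card F ^ 1 =
      Fintype.card W * Fintype.card F ^ (2 * 1) + zn R * Fintype.card F ^ (1 + 1) := by exact_mod_cast h1
  have hq' : (Fintype.card F : ℤ) ≠ 0 := by exact_mod_cast hq.ne'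
  apply mul_left_cancel₀ hq'
  linear_combination h4

theorem card_Dp [Finite F] [FiniteDimensional F V] {e f : V} (h : Hyp Q e f) {n : ℕ}
    (hn : Module.finrank F V = n + 2) : Nat.card (Dp Q e f) = Nat.card F ^ n := by
  have h1 := finrank_Dp h
  rw [Module.natCard_eq_pow_finrank (K := F)]
  congr 1
  omega

theorem zn_step [Finite F] [FiniteDimensional F V] {e f : V} (h : Hyp Q e f) {n : ℕ}
    (hn : Module.finrank F V = n + 2) :
    (zn Q : ℤ) = Nat.card F ^ n * ((Nat.card F : ℤ) - 1) + Nat.card F * zn (rU Q (Dp Q e f)) := by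
  have hfin : Finite V := Module.finite_of_finite F
  rw [zn_congr ((dec h :)) (dec_apply h), zn_hypSum, card_Dp h hn]
  push_cast
  rfl

/-- **the order recursion** -/
theorem card_O_step [Finite F] [FiniteDimensional F V] (hQ : Nondeg Q) {e f : V} (h : Hyp Q e f) {n : ℕ}
    (hn : Module.finrank F V = n + 2) :
    Nat.card ↥(O Q) = (zn Q - 1) * Nat.card F ^ n * Nat.card ↥(O (rU Q (Dp Q e f))) := by
  have hfin : Finite V := Module.finite_of_finite F
  rw [card_O_congr ((dec h :)) (dec_apply h), card_O_eq_OG, card_OG_hypSum, card_Dp h hn, ← card_O_eq_OG,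
    zn_congr ((dec h :)) (dec_apply h)]
  · rfl
  · intro u hu hu0
    by_contra hcon
    push Not at hcon
    exact hu0 (nondeg_congr ((dec h :)) (dec_apply h) hQ u hcon)

/-! ### Types -/

/-- nondegenerate of dimension `n` and type `ε` -/
structure Ty (Q : QuadraticForm F V) (n : ℕ) (ε : ℤ) : Prop where
  nd : Nondeg Q
  dim : Module.finrank F V = n
  par : (Odd n ∧ ε = 0) ∨ (Even n ∧ (ε = 1 ∨ ε = -1))
  cnt : (Nat.card F : ℤ) * zn Q = Nat.card F ^ n + ε * ((Nat.card F : ℤ) - 1) * Nat.card F ^ (n / 2)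

theorem Ty.congr {W : Type*} [AddCommGroup W] [Module F W] {Q' : QuadraticForm F W} {n : ℕ} {ε : ℤ}
    (hT : Ty Q n ε) (e : W ≃ₗ[F] V) (he : ∀ w, Q (e w) = Q' w) : Ty Q' n ε :=
  ⟨nondeg_congr e he hT.nd, by rw [LinearEquiv.finrank_eq e, hT.dim], hT.par, by
    rw [← zn_congr e he]; exact hT.cnt⟩

theorem one_lt_q (F : Type*) [Field F] [Finite F] : (1 : ℤ) < Nat.card F := by
  exact_mod_cast Finite.one_lt_card

theorem Ty.unique [Finite F] {n : ℕ} {ε ε' : ℤ} (h : Ty Q n ε) (h' : Ty Q n ε') : ε = ε' := by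
  have h1 := one_lt_q F
  have h2 := h.cnt.symm.trans h'.cnt
  have h3 : ((Nat.card F : ℤ) - 1) * Nat.card F ^ (n / 2) ≠ 0 :=
    mul_ne_zero (by omega) (pow_ne_zero _ (by omega))
  apply mul_right_cancel₀ h3
  linear_combination h2

theorem Ty.dp [Finite F] [FiniteDimensional F V] {n : ℕ} {ε : ℤ} (hT : Ty Q (n + 2) ε) {e f : V}
    (h : Hyp Q e f) : Ty (rU Q (Dp Q e f)) n ε := by
  have h1 := one_lt_q F
  refine ⟨nondeg_Dp h hT.nd, ?_, ?_, ?_⟩
  · have := finrank_Dp h
    rw [hT.dim] at this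
    omega
  · rcases hT.par with ⟨h2, h3⟩ | ⟨h2, h3⟩
    · exact Or.inl ⟨by rw [Nat.odd_iff] at h2 ⊢; omega, h3⟩
    · exact Or.inr ⟨by rw [Nat.even_iff] at h2 ⊢; omega, h3⟩
  · have h4 := zn_step h hT.dim
    have h5 := hT.cnt
    have h6 : (n + 2) / 2 = n / 2 + 1 := by omega
    rw [h6, h4] at h5
    have h7 : (Nat.card F : ℤ) ≠ 0 := by omega
    apply mul_left_cancel₀ h7
    linear_combination h5

theorem Ty.of_dp [Finite F] [FiniteDimensional F V] (hQ : Nondeg Q) {n : ℕ} {ε : ℤ} {e f : V}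
    (h : Hyp Q e f) (hn : Module.finrank F V = n + 2) (hT : Ty (rU Q (Dp Q e f)) n ε) : Ty Q (n + 2) ε := by
  refine ⟨hQ, hn, ?_, ?_⟩
  · rcases hT.par with ⟨h2, h3⟩ | ⟨h2, h3⟩
    · exact Or.inl ⟨by rw [Nat.odd_iff] at h2 ⊢; omega, h3⟩
    · exact Or.inr ⟨by rw [Nat.even_iff] at h2 ⊢; omega, h3⟩
  · have h4 := zn_step h hn
    have h5 := hT.cnt
    have h6 : (n + 2) / 2 = n / 2 + 1 := by omega
    rw [h6, h4]
    linear_combination (Nat.card F : ℤ) * h5

theorem zn_of_aniso (h : ∀ v, Q v = 0 → v = 0) : zn Q = 1 := by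
  rw [zn, Nat.card_eq_one_iff_unique]
  exact ⟨⟨fun a b => Subtype.ext ((h _ a.2).trans (h _ b.2).symm)⟩, ⟨⟨0, QuadraticMap.map_zero Q⟩⟩⟩

/-- **every nondegenerate form has a type** -/
theorem exists_ty [Finite F] (h2 : (2 : F) ≠ 0) (n : ℕ) : ∀ (V : Type*) [AddCommGroup V] [Module F V]
    [FiniteDimensional F V] (Q : QuadraticForm F V), Nondeg Q → Module.finrank F V = n → ∃ ε, Ty Q n ε := by
  induction n using Nat.strong_induction_on with
  | _ n IH =>
  intro V _ _ _ Q hQ hn
  by_cases hs : ∃ e : V, e ≠ 0 ∧ Q e = 0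
  · obtain ⟨e, he0, he⟩ := hs
    obtain ⟨f, h⟩ := OrthTrans.exists_hyp hQ he he0
    have h1 := finrank_Dp h
    obtain ⟨m, rfl⟩ : ∃ m, n = m + 2 := ⟨Module.finrank F (Dp Q e f), by omega⟩
    obtain ⟨ε, hε⟩ := IH m (by omega) _ (rU Q (Dp Q e f)) (nondeg_Dp h hQ) (by omega)
    exact ⟨ε, Ty.of_dp hQ h hn hε⟩
  · push Not at hs
    have hz : zn Q = 1 := zn_of_aniso fun v hv => by
      by_contra h3
      exact hs v h3 hv
    have hn2 : n ≤ 2 := by
      by_contra hcon
      obtain ⟨s, -, hs0, hs1⟩ := OrthFinite.exists_sing_mem (Q := Q) (⊤ : Submodule F V) (by rw [finrank_top]; omega)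
      exact hs s hs0 hs1
    interval_cases n
    · exact ⟨1, hQ, hn, Or.inr ⟨by decide, Or.inl rfl⟩, by rw [hz]; norm_num only [_root_.mul_one, _root_.pow_zero, _root_.one_mul, _root_.add_sub_cancel]⟩
    · exact ⟨0, hQ, hn, Or.inl ⟨by decide, rfl⟩, by rw [hz]; norm_num only [_root_.mul_one, _root_.pow_one, _root_.MulZeroClass.zero_mul, _root_.pow_zero, _root_.add_zero]⟩
    · exact ⟨-1, hQ, hn, Or.inr ⟨by decide, Or.inr rfl⟩, by rw [hz]; norm_num only [_root_.mul_one, _root_.neg_mul, _root_.one_mul, _root_.neg_sub, _root_.pow_one]; ring⟩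

/-! ### Orthogonal sums -/

section sum

variable {U W : Submodule F V}

/-- `V = U ⊥ W` -/
structure Osum (Q : QuadraticForm F V) (U W : Submodule F V) : Prop where
  compl : IsCompl U W
  orth : ∀ u ∈ U, ∀ w ∈ W, polar Q u w = 0

theorem Osum.symm (h : Osum Q U W) : Osum Q W U :=
  ⟨h.compl.symm, fun w hw u hu => by rw [polar_comm]; exact h.orth u hu w hw⟩

theorem Osum.exists_dec (h : Osum Q U W) (v : V) : ∃ u ∈ U, ∃ w ∈ W, v = u + w := by
  have h1 : v ∈ U ⊔ W := by rw [h.compl.sup_eq_top]; exact Submodule.mem_top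
  obtain ⟨a, ha, b, hb, rfl⟩ := Submodule.mem_sup.1 h1
  exact ⟨a, ha, b, hb, rfl⟩

theorem Osum.Q_add (h : Osum Q U W) {u w : V} (hu : u ∈ U) (hw : w ∈ W) : Q (u + w) = Q u + Q w := by
  rw [OrthCore.Q_add, h.orth u hu w hw, add_zero]

theorem Osum.nondeg_left (h : Osum Q U W) (hQ : Nondeg Q) : Nondeg (rU Q U) := by
  intro x hx
  apply Subtype.ext
  apply hQ
  intro y
  obtain ⟨u, hu, w, hw, rfl⟩ := h.exists_dec y
  rw [polar_add_right, h.orth _ x.2 w hw, add_zero]
  exact (polar_rU x ⟨u, hu⟩).symm.trans (hx ⟨u, hu⟩)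

theorem Osum.mem_left (h : Osum Q U W) (hQ : Nondeg Q) {x : V} (hx : ∀ w ∈ W, polar Q x w = 0) : x ∈ U := by
  obtain ⟨u, hu, w, hw, rfl⟩ := h.exists_dec x
  have h1 : (⟨w, hw⟩ : W) = 0 := by
    apply h.symm.nondeg_left hQ
    intro y
    rw [polar_rU]
    have := hx y y.2
    rwa [polar_add_left, h.orth u hu y y.2, zero_add] at this
  have h2 : w = 0 := congrArg Subtype.val h1
  rw [h2, add_zero]
  exact hu

theorem Osum.finrank [FiniteDimensional F V] (h : Osum Q U W) :
    Module.finrank F U + Module.finrank F W = Module.finrank F V :=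
  Submodule.finrank_add_eq_of_isCompl h.compl

/-- the sum of two maps -/
noncomputable def sumL (h : Osum Q U W) (a : U ≃ₗ[F] U) (b : W ≃ₗ[F] W) : V ≃ₗ[F] V :=
  (Submodule.prodEquivOfIsCompl U W h.compl).symm.trans
    ((a.prodCongr b).trans (Submodule.prodEquivOfIsCompl U W h.compl))

theorem sumL_apply (h : Osum Q U W) (a : U ≃ₗ[F] U) (b : W ≃ₗ[F] W) (u : U) (w : W) :
    sumL h a b ((u : V) + w) = (a u : V) + b w := by
  have h1 : (Submodule.prodEquivOfIsCompl U W h.compl).symm ((u : V) + w) = (u, w) := by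
    rw [LinearEquiv.symm_apply_eq]
    rfl
  change (Submodule.prodEquivOfIsCompl U W h.compl) ((a.prodCongr b)
    ((Submodule.prodEquivOfIsCompl U W h.compl).symm ((u : V) + w))) = _
  rw [h1]
  rfl

theorem sumL_left (h : Osum Q U W) (a : U ≃ₗ[F] U) (b : W ≃ₗ[F] W) (u : U) : sumL h a b (u : V) = (a u : V) := by
  have := sumL_apply h a b u 0
  rwa [map_zero, Submodule.coe_zero, add_zero, add_zero] at this

theorem sumL_right (h : Osum Q U W) (a : U ≃ₗ[F] U) (b : W ≃ₗ[F] W) (w : W) : sumL h a b (w : V) = (b w : V) := by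
  have := sumL_apply h a b 0 w
  rwa [map_zero, Submodule.coe_zero, zero_add, zero_add] at this

theorem sumL_mem (h : Osum Q U W) {a : U ≃ₗ[F] U} {b : W ≃ₗ[F] W} (ha : a ∈ O (rU Q U)) (hb : b ∈ O (rU Q W)) :
    sumL h a b ∈ O Q := by
  intro v
  obtain ⟨u, hu, w, hw, rfl⟩ := h.exists_dec v
  rw [sumL_apply h a b ⟨u, hu⟩ ⟨w, hw⟩, h.Q_add (a _).2 (b _).2, h.Q_add hu hw]
  have h1 : Q ((a ⟨u, hu⟩ : U) : V) = Q u := ha ⟨u, hu⟩
  have h2 : Q ((b ⟨w, hw⟩ : W) : V) = Q w := hb ⟨w, hw⟩
  rw [h1, h2]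

/-- restriction -/
theorem exists_restrict [FiniteDimensional F V] {g : V ≃ₗ[F] V} (hg : g ∈ O Q) (hU : ∀ u ∈ U, g u ∈ U) :
    ∃ a ∈ O (rU Q U), ∀ u : U, ((a u : U) : V) = g u := by
  let f : U →ₗ[F] U := (g : V →ₗ[F] V).restrict hU
  have hf : Function.Injective f := by
    intro x y hxy
    apply Subtype.ext
    apply g.injective
    exact congrArg Subtype.val hxy
  refine ⟨LinearEquiv.ofInjectiveEndo f hf, ?_, fun u => rfl⟩
  intro u
  exact hg (u : V)

/-- **the stabiliser of an orthogonal decomposition** -/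
theorem card_stab [FiniteDimensional F V] (h : Osum Q U W) :
    Nat.card {g : ↥(O Q) // (∀ u ∈ U, (g : V ≃ₗ[F] V) u ∈ U) ∧ ∀ w ∈ W, (g : V ≃ₗ[F] V) w ∈ W} =
      Nat.card ↥(O (rU Q U)) * Nat.card ↥(O (rU Q W)) := by
  rw [← Nat.card_prod]
  refine (Nat.card_congr (Equiv.ofBijective (fun x : ↥(O (rU Q U)) × ↥(O (rU Q W)) =>
    (⟨⟨sumL h x.1.1 x.2.1, sumL_mem h x.1.2 x.2.2⟩, ?_, ?_⟩ :
    {g : ↥(O Q) // (∀ u ∈ U, (g : V ≃ₗ[F] V) u ∈ U) ∧ ∀ w ∈ W, (g : V ≃ₗ[F] V) w ∈ W})) ⟨?_, ?_⟩)).symm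
  · intro u hu
    change sumL h x.1.1 x.2.1 u ∈ U
    rw [sumL_left h _ _ ⟨u, hu⟩]
    exact Subtype.coe_prop _
  · intro w hw
    change sumL h x.1.1 x.2.1 w ∈ W
    rw [sumL_right h _ _ ⟨w, hw⟩]
    exact Subtype.coe_prop _
  · intro x y hxy
    have h1 : sumL h x.1.1 x.2.1 = sumL h y.1.1 y.2.1 := congrArg (fun g => g.1.1) hxy
    refine Prod.ext (Subtype.ext (LinearEquiv.ext fun u => Subtype.ext ?_))
      (Subtype.ext (LinearEquiv.ext fun w => Subtype.ext ?_))
    · rw [← sumL_left h x.1.1 x.2.1, h1, sumL_left]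
    · rw [← sumL_right h x.1.1 x.2.1, h1, sumL_right]
  · rintro ⟨⟨g, hg⟩, hU, hW⟩
    obtain ⟨a, ha, ha'⟩ := exists_restrict hg hU
    obtain ⟨b, hb, hb'⟩ := exists_restrict hg hW
    refine ⟨⟨⟨a, ha⟩, ⟨b, hb⟩⟩, Subtype.ext (Subtype.ext (LinearEquiv.ext fun v => ?_))⟩
    change sumL h a b v = g v
    obtain ⟨u, hu, w, hw, rfl⟩ := h.exists_dec v
    rw [sumL_apply h a b ⟨u, hu⟩ ⟨w, hw⟩, ha', hb', map_add]

/-- **the pointwise stabiliser of a summand** -/
theorem card_fix [FiniteDimensional F V] (hQ : Nondeg Q) (h : Osum Q U W) :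
    Nat.card {g : ↥(O Q) // ∀ w ∈ W, (g : V ≃ₗ[F] V) w = w} = Nat.card ↥(O (rU Q U)) := by
  refine (Nat.card_congr (Equiv.ofBijective (fun x : ↥(O (rU Q U)) =>
    (⟨⟨sumL h x.1 1, sumL_mem h x.2 (O _).one_mem⟩, ?_⟩ :
    {g : ↥(O Q) // ∀ w ∈ W, (g : V ≃ₗ[F] V) w = w})) ⟨?_, ?_⟩)).symm
  · intro w hw
    change sumL h x.1 1 w = w
    rw [sumL_right h _ _ ⟨w, hw⟩]
    rfl
  · intro x y hxy
    have h1 : sumL h x.1 1 = sumL h y.1 1 := congrArg (fun g => g.1.1) hxy
    refine Subtype.ext (LinearEquiv.ext fun u => Subtype.ext ?_)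
    rw [← sumL_left h x.1 1, h1, sumL_left]
  · rintro ⟨⟨g, hg⟩, hW⟩
    have hU : ∀ u ∈ U, g u ∈ U := by
      intro u hu
      apply h.mem_left hQ
      intro w hw
      rw [← hW w hw, polar_map hg]
      exact h.orth u hu w hw
    obtain ⟨a, ha, ha'⟩ := exists_restrict hg hU
    refine ⟨⟨a, ha⟩, Subtype.ext (Subtype.ext (LinearEquiv.ext fun v => ?_))⟩
    change sumL h a 1 v = g v
    obtain ⟨u, hu, w, hw, rfl⟩ := h.exists_dec v
    rw [sumL_apply h a 1 ⟨u, hu⟩ ⟨w, hw⟩, ha', map_add]
    have : g w = w := hW w hw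
    rw [this]
    rfl

end sum

/-! ### Nonsingular vectors -/

/-- `v^⊥` and `⟨v⟩` -/
theorem osum_span {v : V} (h2 : (2 : F) ≠ 0) (hv : Q v ≠ 0) :
    Osum Q (LinearMap.ker (polarBilin Q v)) (Submodule.span F {v}) := by
  have h3 : polar Q v v ≠ 0 := by rw [polar_self']; exact mul_ne_zero h2 hv
  refine ⟨⟨?_, ?_⟩, ?_⟩
  · rw [Submodule.disjoint_def]
    intro x hx hx'
    obtain ⟨c, rfl⟩ := Submodule.mem_span_singleton.1 hx'
    have h4 : polar Q v (c • v) = 0 := hx
    rw [polar_smul_right, smul_eq_mul] at h4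
    rw [(mul_eq_zero.1 h4).resolve_right h3, zero_smul]
  · rw [codisjoint_iff, eq_top_iff]
    intro x _
    rw [Submodule.mem_sup]
    refine ⟨x - (polar Q v x / polar Q v v) • v, ?_, (polar Q v x / polar Q v v) • v,
      Submodule.smul_mem _ _ (Submodule.mem_span_singleton_self v), by abel⟩
    change polar Q v (x - (polar Q v x / polar Q v v) • v) = 0
    rw [polar_sub_right, polar_smul_right, smul_eq_mul, div_mul_cancel₀ _ h3, sub_self]
  · intro u hu w hw
    obtain ⟨c, rfl⟩ := Submodule.mem_span_singleton.1 hw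
    have h4 : polar Q v u = 0 := hu
    rw [polar_smul_right, polar_comm, h4, smul_zero]

/-- **orbit-stabiliser for a nonsingular vector** -/
theorem card_O_vec [FiniteDimensional F V] (hQ : Nondeg Q) (h2 : (2 : F) ≠ 0) {v : V} (hv : Q v ≠ 0) :
    Nat.card ↥(O Q) = Nat.card {x : V // Q x = Q v} *
      Nat.card ↥(O (rU Q (LinearMap.ker (polarBilin Q v)))) := by
  have hv0 : v ≠ 0 := by
    rintro rfl
    exact hv (QuadraticMap.map_zero Q)
  have h1 := Subgroup.index_mul_card (MulAction.stabilizer ↥(O Q) v)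
  rw [← h1, MulAction.index_stabilizer]
  congr 1
  · have h3 : MulAction.orbit ↥(O Q) v = {x | Q x = Q v} := by
      ext x
      constructor
      · rintro ⟨g, rfl⟩
        exact g.2 v
      · intro hx
        have hx' : Q x = Q v := hx
        have hx0 : x ≠ 0 := by
          rintro rfl
          rw [QuadraticMap.map_zero] at hx'
          exact hv hx'.symm
        obtain ⟨g, hg, hgx⟩ := Cfsg.Agent.ClassicalGeometry.WittQuad.extend_family Q
          (nondegenerate_of_nondeg hQ) 1 (fun _ => v) (fun _ => x)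
          (LinearIndependent.of_subsingleton (0 : Fin 1) hv0) (LinearIndependent.of_subsingleton (0 : Fin 1) hx0)
          (fun _ => hx'.symm) (fun _ _ => by
            rw [polarBilin_apply_apply, polarBilin_apply_apply, polar_self', polar_self', hx'])
        exact ⟨⟨g, hg⟩, hgx 0⟩
    rw [h3]
    rfl
  · rw [← card_fix hQ (osum_span h2 hv)]
    refine Nat.card_congr (Equiv.subtypeEquivRight fun g => ?_)
    rw [MulAction.mem_stabilizer_iff]
    constructor
    · intro hg w hw
      obtain ⟨c, rfl⟩ := Submodule.mem_span_singleton.1 hw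
      rw [map_smul]
      congr 1
    · intro hg
      exact hg v (Submodule.mem_span_singleton_self v)

theorem card_O_zero [FiniteDimensional F V] (h : Module.finrank F V = 0) : Nat.card ↥(O Q) = 1 := by
  have : Subsingleton V := Module.finrank_zero_iff.1 h
  rw [Nat.card_eq_one_iff_unique]
  exact ⟨⟨fun a b => Subtype.ext (LinearEquiv.ext fun v => Subsingleton.elim _ _)⟩, ⟨1⟩⟩

theorem finrank_ker_polar [FiniteDimensional F V] {v : V} (h2 : (2 : F) ≠ 0) (hv : Q v ≠ 0) :
    Module.finrank F (LinearMap.ker (polarBilin Q v)) + 1 = Module.finrank F V := by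
  have hv0 : v ≠ 0 := by
    rintro rfl
    exact hv (QuadraticMap.map_zero Q)
  have := (osum_span h2 hv).finrank
  rwa [finrank_span_singleton hv0] at this

theorem card_O_one [FiniteDimensional F V] (hQ : Nondeg Q) (h2 : (2 : F) ≠ 0) (h : Module.finrank F V = 1) :
    Nat.card ↥(O Q) = 2 := by
  have hnt : Nontrivial V := Module.nontrivial_of_finrank_pos (R := F) (by omega)
  obtain ⟨v, hv0⟩ := exists_ne (0 : V)
  have hsp : ∀ x : V, ∃ c : F, c • v = x := by
    intro x
    exact (finrank_eq_one_iff_of_nonzero' v hv0).1 h x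
  have hv : Q v ≠ 0 := by
    intro hv
    apply hv0
    apply hQ
    intro y
    obtain ⟨c, rfl⟩ := hsp y
    rw [polar_smul_right, polar_self_of_sing hv, smul_zero]
  have h3 := finrank_ker_polar h2 hv
  rw [card_O_vec hQ h2 hv, card_O_zero (by omega), mul_one]
  have h4 : ({x | Q x = Q v} : Set V) = {v, -v} := by
    ext x
    constructor
    · intro hx
      obtain ⟨c, rfl⟩ := hsp x
      have hx' : Q (c • v) = Q v := hx
      rw [QuadraticMap.map_smul, smul_eq_mul] at hx'
      have h5 : c * c = 1 := mul_right_cancel₀ hv (hx'.trans (one_mul _).symm)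
      rcases mul_self_eq_one_iff.1 h5 with rfl | rfl
      · left; rw [one_smul]
      · right
        change (-1 : F) • v = -v
        rw [neg_one_smul]
    · rintro (rfl | rfl)
      · rfl
      · exact QuadraticMap.map_neg Q v
  have h5 : v ≠ -v := by
    intro h5
    apply hv0
    have h6 : (2 : F) • v = 0 := by
      rw [two_smul]
      nth_rewrite 2 [h5]
      exact add_neg_cancel v
    exact (smul_eq_zero.1 h6).resolve_left h2
  change Nat.card ↥({x | Q x = Q v} : Set V) = 2
  rw [h4, Nat.card_coe_set_eq, Set.ncard_pair h5]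

/-- **the anisotropic plane** -/
theorem card_O_two_neg [Finite F] [FiniteDimensional F V] (hQ : Nondeg Q) (h2 : (2 : F) ≠ 0)
    (h : Module.finrank F V = 2) (han : ∀ v, Q v = 0 → v = 0) :
    (Nat.card ↥(O Q) : ℤ) = 2 * ((Nat.card F : ℤ) + 1) := by
  classical
  have hfin : Finite V := Module.finite_of_finite F
  have hnt : Nontrivial V := Module.nontrivial_of_finrank_pos (R := F) (by omega)
  -- every nonzero value is taken
  have hval : ∀ c : F, c ≠ 0 → ∃ v, Q v = c := by
    intro c hc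
    obtain ⟨v, hv0⟩ := exists_ne (0 : V)
    have hv : Q v ≠ 0 := fun h => hv0 (han v h)
    have h3 := finrank_ker_polar h2 hv
    have hnt' : Nontrivial (LinearMap.ker (polarBilin Q v)) :=
      Module.nontrivial_of_finrank_pos (R := F) (by omega)
    obtain ⟨⟨w, hw⟩, hw0⟩ := exists_ne (0 : LinearMap.ker (polarBilin Q v))
    have hw0' : w ≠ 0 := fun h => hw0 (Subtype.ext h)
    have hQw : Q w ≠ 0 := fun h => hw0' (han w h)
    obtain ⟨x, y, hxy⟩ := Cfsg.Agent.H75.OrthIdx.exists_binary (Q v) (Q w) c hv hQw h2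
    refine ⟨x • v + y • w, ?_⟩
    have hvw : polar Q v w = 0 := hw
    rw [OrthCore.Q_add, QuadraticMap.map_smul, QuadraticMap.map_smul, polar_smul_left, polar_smul_right, hvw, ← hxy]
    simp only [smul_eq_mul]
    ring
  have hN : ∀ c : F, c ≠ 0 → Nat.card {x : V // Q x = c} * 2 = Nat.card ↥(O Q) := by
    intro c hc
    obtain ⟨v, rfl⟩ := hval c hc
    have h3 := finrank_ker_polar h2 hc
    have h4 := card_O_one (Q := rU Q (LinearMap.ker (polarBilin Q v))) ((osum_span h2 hc).nondeg_left hQ) h2 (by omega)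
    rw [card_O_vec hQ h2 hc, h4]
  cases nonempty_fintype F
  cases nonempty_fintype V
  have hsum : ∑ c : F, Nat.card {x : V // Q x = c} = Nat.card V := by
    rw [← Nat.card_sigma]
    exact Nat.card_congr (Equiv.sigmaFiberEquiv (fun x : V => Q x))
  have h0 : Nat.card {x : V // Q x = 0} = 1 := zn_of_aniso han
  have hV : Nat.card V = Nat.card F ^ 2 := by rw [Module.natCard_eq_pow_finrank (K := F), h]
  rw [← Finset.add_sum_erase _ _ (Finset.mem_univ (0 : F)), h0, hV] at hsum
  have h5 : (∑ c ∈ Finset.univ.erase (0 : F), Nat.card {x : V // Q x = c}) * 2 =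
      (Nat.card F - 1) * Nat.card ↥(O Q) := by
    rw [Finset.sum_mul, Finset.sum_congr rfl fun c hc => hN c (Finset.ne_of_mem_erase hc), Finset.sum_const,
      Finset.card_erase_of_mem (Finset.mem_univ _), Finset.card_univ, smul_eq_mul, Nat.card_eq_fintype_card (α := F)]
  have hq := one_lt_q F
  have h6 : ((∑ c ∈ Finset.univ.erase (0 : F), Nat.card {x : V // Q x = c} : ℕ) : ℤ) = (Nat.card F : ℤ) ^ 2 - 1 := by
    have : (1 : ℤ) + ((∑ c ∈ Finset.univ.erase (0 : F), Nat.card {x : V // Q x = c} : ℕ) : ℤ) =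
        (Nat.card F : ℤ) ^ 2 := by exact_mod_cast hsum
    linear_combination this
  have h7 : ((∑ c ∈ Finset.univ.erase (0 : F), Nat.card {x : V // Q x = c} : ℕ) : ℤ) * 2 =
      ((Nat.card F : ℤ) - 1) * Nat.card ↥(O Q) := by
    have h8 : ((Nat.card F - 1 : ℕ) : ℤ) = (Nat.card F : ℤ) - 1 := by
      rw [Nat.cast_sub Nat.card_pos, Nat.cast_one]
    rw [← h8]
    exact_mod_cast h5
  rw [h6] at h7
  have h9 : (Nat.card F : ℤ) - 1 ≠ 0 := by omega
  apply mul_left_cancel₀ h9
  linear_combination -h7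

/-! ### The orders -/

theorem exists_hyp_of_ty [Finite F] [FiniteDimensional F V] {n : ℕ} {ε : ℤ} (hT : Ty Q (n + 2) ε)
    (h : 1 ≤ n ∨ ε = 1) : ∃ e f, Hyp Q e f := by
  have hq := one_lt_q F
  have h3 : ∃ s : V, s ≠ 0 ∧ Q s = 0 := by
    rcases Nat.eq_zero_or_pos n with rfl | hn
    · have hε : ε = 1 := h.resolve_left (by omega)
      by_contra hcon
      push Not at hcon
      have hz : zn Q = 1 := zn_of_aniso fun v hv => by
        by_contra h3
        exact hcon v h3 hv
      have h4 := hT.cnt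
      rw [hz, hε] at h4
      norm_num only [_root_.mul_one, _root_.one_mul, _root_.pow_one] at h4
      nlinarith only [hq, h4]
    · obtain ⟨s, -, hs0, hs1⟩ := OrthFinite.exists_sing_mem (Q := Q) (⊤ : Submodule F V)
        (by rw [finrank_top, hT.dim]; omega)
      exact ⟨s, hs0, hs1⟩
  obtain ⟨s, hs0, hs⟩ := h3
  obtain ⟨f, hf⟩ := OrthTrans.exists_hyp hT.nd hs hs0
  exact ⟨s, f, hf⟩

/-- `∏ (q^(2i) - 1)`, `1 ≤ i ≤ m` -/
def PP (q : ℤ) (m : ℕ) : ℤ := ∏ i ∈ Finset.range m, (q ^ (2 * (i + 1)) - 1)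

theorem PP_succ (q : ℤ) (m : ℕ) : PP q (m + 1) = PP q m * (q ^ (2 * (m + 1)) - 1) := Finset.prod_range_succ _ _

theorem PP_zero (q : ℤ) : PP q 0 = 1 := rfl

theorem card_O_step' [Finite F] [FiniteDimensional F V] {n : ℕ} {ε : ℤ} (hT : Ty Q (n + 2) ε) {e f : V}
    (h : Hyp Q e f) : (Nat.card F : ℤ) * Nat.card ↥(O Q) =
      (Nat.card F ^ (n + 2) + ε * ((Nat.card F : ℤ) - 1) * Nat.card F ^ (n / 2 + 1) - Nat.card F) *
        Nat.card F ^ n * Nat.card ↥(O (rU Q (Dp Q e f))) := by
  have hfin : Finite V := Module.finite_of_finite F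
  have h1 := card_O_step hT.nd h hT.dim
  have hz : 1 ≤ zn Q := by
    rw [Nat.succ_le_iff, zn]
    have : Nonempty {v : V // Q v = 0} := ⟨⟨0, QuadraticMap.map_zero Q⟩⟩
    exact Nat.card_pos
  have h2 : (Nat.card ↥(O Q) : ℤ) = ((zn Q : ℤ) - 1) * Nat.card F ^ n * Nat.card ↥(O (rU Q (Dp Q e f))) := by
    rw [h1]
    push_cast [Nat.cast_sub hz]
    ring
  have h3 := hT.cnt
  have h6 : (n + 2) / 2 = n / 2 + 1 := by omega
  rw [h6] at h3
  rw [h2]
  linear_combination (Nat.card F ^ n * Nat.card ↥(O (rU Q (Dp Q e f))) : ℤ) * h3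

/-- **the order of an orthogonal group of even dimension** -/
theorem Ty.card_even [Finite F] (h2 : (2 : F) ≠ 0) (m : ℕ) : ∀ {V : Type*} [AddCommGroup V] [Module F V]
    [FiniteDimensional F V] {Q : QuadraticForm F V} {ε : ℤ}, Ty Q (2 * (m + 1)) ε →
    (Nat.card ↥(O Q) : ℤ) = 2 * Nat.card F ^ ((m + 1) * m) * ((Nat.card F : ℤ) ^ (m + 1) - ε) * PP (Nat.card F) m := by
  have hq := one_lt_q F
  have hq0 : (Nat.card F : ℤ) ≠ 0 := by omega
  induction m with
  | zero =>
    intro V _ _ _ Q ε hT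
    rw [PP_zero]
    rcases hT.par with ⟨h3, -⟩ | ⟨-, rfl | rfl⟩
    · exact absurd h3 (by decide)
    · obtain ⟨e, f, hef⟩ := exists_hyp_of_ty (n := 0) hT (Or.inr rfl)
      have h3 := card_O_step' (n := 0) hT hef
      have h4 := finrank_Dp hef
      rw [hT.dim] at h4
      rw [card_O_zero (V := Dp Q e f) (by omega)] at h3
      apply mul_left_cancel₀ hq0
      rw [h3]
      push_cast
      ring
    · rw [card_O_two_neg hT.nd h2 hT.dim]
      · ring
      · have h3 := hT.cnt
        have h4 : zn Q = 1 := by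
          have : (Nat.card F : ℤ) * zn Q = Nat.card F * 1 := by
            rw [h3]
            norm_num only [_root_.neg_mul, _root_.one_mul, _root_.neg_sub, _root_.pow_one, _root_.mul_one]
            ring
          exact_mod_cast mul_left_cancel₀ hq0 this
        rw [zn, Nat.card_eq_one_iff_unique] at h4
        obtain ⟨h5, -⟩ := h4
        intro v hv
        exact congrArg Subtype.val (Subsingleton.elim (⟨v, hv⟩ : {v : V // Q v = 0}) ⟨0, QuadraticMap.map_zero Q⟩)
  | succ m ih =>
    intro V _ _ _ Q ε hT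
    obtain ⟨e, f, hef⟩ := exists_hyp_of_ty (n := 2 * (m + 1)) hT (Or.inl (by omega))
    have h3 := card_O_step' (n := 2 * (m + 1)) hT hef
    have h4 := ih (Ty.dp (n := 2 * (m + 1)) hT hef)
    rw [h4, show 2 * (m + 1) / 2 = m + 1 by omega] at h3
    have hε : ε * ε = 1 := by
      rcases hT.par with ⟨h5, -⟩ | ⟨-, rfl | rfl⟩
      · rw [Nat.odd_iff] at h5; omega
      · rfl
      · rfl
    apply mul_left_cancel₀ hq0
    rw [h3, PP_succ]
    generalize PP (Nat.card F) m = P
    generalize (Nat.card F : ℤ) = q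
    have e1 : q ^ ((m + 1 + 1) * (m + 1)) = q ^ ((m + 1) * m) * (q ^ (m + 1) * q ^ (m + 1)) := by ring
    have e2 : q ^ (2 * (m + 1) + 2) = q * q * q ^ (m + 1) * q ^ (m + 1) := by ring
    have e3 : q ^ (m + 1 + 1) = q * q ^ (m + 1) := by ring
    have e4 : q ^ (2 * (m + 1)) = q ^ (m + 1) * q ^ (m + 1) := by ring
    rw [e1, e2, e3, e4]
    generalize q ^ (m + 1) = a
    generalize q ^ ((m + 1) * m) = b
    linear_combination (-(2 * b * P * q * a * a * (q - 1) * a) : ℤ) * hε

theorem Ty.card_odd [Finite F] (h2 : (2 : F) ≠ 0) (m : ℕ) : ∀ {V : Type*} [AddCommGroup V] [Module F V]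
    [FiniteDimensional F V] {Q : QuadraticForm F V} {ε : ℤ}, Ty Q (2 * m + 1) ε →
    (Nat.card ↥(O Q) : ℤ) = 2 * Nat.card F ^ (m ^ 2) * PP (Nat.card F) m := by
  have hq := one_lt_q F
  have hq0 : (Nat.card F : ℤ) ≠ 0 := by omega
  induction m with
  | zero =>
    intro V _ _ _ Q ε hT
    rw [PP_zero, card_O_one hT.nd h2 hT.dim]
    norm_num only [_root_.pow_zero, _root_.mul_one]
  | succ m ih =>
    intro V _ _ _ Q ε hT
    have hT' : Ty Q (2 * m + 1 + 2) ε := hT
    obtain ⟨e, f, hef⟩ := exists_hyp_of_ty hT' (Or.inl (by omega))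
    have h3 := card_O_step' hT' hef
    have h4 := ih (Ty.dp hT' hef)
    have hε : ε = 0 := by
      rcases hT.par with ⟨-, h5⟩ | ⟨h5, -⟩
      · exact h5
      · rw [Nat.even_iff] at h5; omega
    rw [h4, hε] at h3
    apply mul_left_cancel₀ hq0
    rw [h3, PP_succ]
    ring

end Cfsg.Agent.H989.Fx

private theorem dce_0d4f6271b74d : _root_.True := by
  try have : _root_.True := by simp only [_root_.Cfsg.Agent.H989.Fx.zn.eq_1]
  exact _root_.True.intro
end

-- part: H807/IF/Odd
section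
set_option linter.all false
open scoped Cfsg.Agent.FastGrp

/-!
# S5719, odd-dimensional orthogonal groups, `q` odd (helper807)

* `center_odd` : the centre of `E Q` is trivial in odd dimension (`2 ≠ 0`);
* `simple_odd` : `E Q` is simple, dimension odd `≥ 5`, finite field, `2 ≠ 0`;
* `eOdd` : `POmega F (quadFormOdd m F) ≃* ↥(E (oddForm m F))`, `m ≥ 2`.
-/

set_option autoImplicit false

namespace Cfsg.Agent.H807.IF

open QuadraticMap Cfsg.Agent.LieClassical.OrthCore Cfsg.Agent.LieClassical.OrthTrans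
  Cfsg.Agent.LieClassical.OrthSimple Cfsg.Agent.LieClassical.OrthFinite Cfsg.Agent.LieClassical.OrthForms

section gen

variable {F V : Type*} [Field F] [AddCommGroup V] [Module F V] {Q : QuadraticForm F V}

/-- the centre of `E Q` is trivial in odd dimension, `2 ≠ 0` -/
theorem center_odd (hG : Good Q) (h2 : (2 : F) ≠ 0) (ho : Odd (Module.finrank F V)) :
    Subgroup.center ↥(E Q) = ⊥ := by
  set N := (Subgroup.center ↥(E Q)).map (E Q).subtype with hN
  have hNE : N ≤ E Q := by
    rintro _ ⟨x, -, rfl⟩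
    exact x.2
  have hcomm : ∀ n ∈ N, ∀ g ∈ E Q, g * n = n * g := by
    rintro _ ⟨x, hx, rfl⟩ g hg
    exact congrArg Subtype.val (Subgroup.mem_center_iff.1 hx ⟨g, hg⟩)
  have hdet : E Q ≤ (LinearEquiv.det : (V ≃ₗ[F] V) →* Fˣ).ker := by
    have h1 : ⁅E Q, E Q⁆ ≤ (LinearEquiv.det : (V ≃ₗ[F] V) →* Fˣ).ker := by
      rw [Subgroup.commutator_le]
      intro a _ b _
      rw [MonoidHom.mem_ker, map_commutatorElement, commutatorElement_eq_one_iff_mul_comm, mul_comm]
    rwa [hG.E_perfect] at h1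
  have key : ∀ n ∈ N, n = 1 := by
    intro n hn
    have h1 : ∃ c : F, ∀ v : V, n v = c • v := by
      rcases good_normal_dichotomy hG hNE (fun g hg n hn => by
        rw [hcomm n hn g hg, mul_inv_cancel_right]; exact hn) with h | h
      · exact h _ hn
      · exfalso
        obtain ⟨g, hg, hg1⟩ := good_E_ne_bot hG
        have h1 : ⁅E Q, E Q⁆ ≤ ⊥ := by
          rw [Subgroup.commutator_le]
          intro g1 hg1 g2 hg2
          rw [← h] at hg1
          rw [Subgroup.mem_bot, commutatorElement_def, ← hcomm g1 hg1 g2 hg2]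
          group
        rw [hG.E_perfect] at h1
        exact hg1 (Subgroup.mem_bot.1 (h1 hg))
    obtain ⟨c, hc⟩ := h1
    obtain ⟨x, y, hxy⟩ := hG.exists_hyp
    have h4 : Q (n (x + y)) = Q (x + y) := E_le_O (hNE hn) _
    have h5 : Q (x + y) = 1 := by rw [Q_add, hxy.left, hxy.right, hxy.pair]; simp
    rw [hc, QuadraticMap.map_smul, h5, smul_eq_mul, mul_one] at h4
    have h6 : (c - 1) * (c + 1) = 0 := by linear_combination h4
    rcases mul_eq_zero.1 h6 with h7 | h7
    · apply LinearEquiv.ext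
      intro v
      rw [hc, sub_eq_zero.1 h7, one_smul]
      rfl
    · exfalso
      have h8 : LinearEquiv.det n = 1 := hdet (hNE hn)
      have h9 : LinearMap.det (n : V →ₗ[F] V) = 1 := by
        rw [← LinearEquiv.coe_det, h8, Units.val_one]
      have h10 : (n : V →ₗ[F] V) = c • LinearMap.id := by
        ext v
        exact hc v
      rw [h10, LinearMap.det_smul, LinearMap.det_id, mul_one, eq_neg_of_add_eq_zero_left h7,
        ho.neg_one_pow] at h9
      apply h2
      linear_combination -h9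
  rw [Subgroup.eq_bot_iff_forall]
  intro z hz
  apply Subtype.ext
  exact key z.1 ⟨z, hz, rfl⟩

/-- `E Q` modulo its trivial centre -/
noncomputable def quotOdd (hc : Subgroup.center ↥(E Q) = ⊥) : ↥(E Q) ⧸ Subgroup.center ↥(E Q) ≃* ↥(E Q) :=
  (QuotientGroup.quotientMulEquivOfEq hc).trans QuotientGroup.quotientBot

/-- **`Ω_{2m+1}(q)`, `q` odd, `m ≥ 2`, is simple** -/
theorem simple_odd [Finite F] [FiniteDimensional F V] (h2 : (2 : F) ≠ 0) (hQ : Nondeg Q)
    (ho : Odd (Module.finrank F V)) (h5 : 5 ≤ Module.finrank F V) : IsSimpleGroup ↥(E Q) := by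
  have hG : Good Q := good_of_finite hQ h5
  have h1 : IsSimpleGroup (↥(E Q) ⧸ Subgroup.center ↥(E Q)) := good_isSimpleGroup hG
  exact (quotOdd (center_odd hG h2 ho)).symm.isSimpleGroup

end gen

section row

variable {F : Type*} [Field F]

theorem finrank_odd (m : ℕ) : Module.finrank F (Unit ⊕ (Fin m ⊕ Fin m) → F) = 2 * m + 1 := by
  rw [Module.finrank_fintype_fun_eq_card, Fintype.card_sum, Fintype.card_sum, Fintype.card_fin, Fintype.card_unit]
  omega

theorem good_odd_row [Finite F] (h2 : (2 : F) ≠ 0) {m : ℕ} (hm : 2 ≤ m) : Good (oddForm m F) :=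
  good_of_finite (nondeg_oddForm m F h2) (by rw [finrank_odd]; omega)

/-- **`PΩ_{2m+1}(q)` is `E` of the odd form.** -/
noncomputable def eOdd [Finite F] (h2 : (2 : F) ≠ 0) {m : ℕ} (hm : 2 ≤ m) :
    Cfsg.POmega F (Cfsg.quadFormOdd m F) ≃* ↥(E (oddForm m F)) := by
  rw [← coe_oddForm]
  exact (quotientCenterCongr ((omegaEquiv (oddForm m F)).trans
    (MulEquiv.subgroupCongr (good_odd_row h2 hm).commutator_eq_E))).trans
    (quotOdd (center_odd (good_odd_row h2 hm) h2 (by rw [finrank_odd]; exact ⟨m, by ring⟩)))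

end row

end Cfsg.Agent.H807.IF
end

-- part: H887/IF/K0b
section
prune_inst 0x1440012200000000008413001c4282000102000880000000040004800c4200040020a010041080800c142030002000100100406000000e000800011800800000000020000000000000000080400000000000000000000000000000000000000000000
set_option linter.all false
open scoped Cfsg.Agent.FastGrp

-- part: H887/IF/K0
section
/-!
# S5719, `N = 8`, minus type: the model `SL(2, q²) → Ω₄⁻` inside `E Q` (helper887)

`K = QuadraticAlgebra F d 0`, `d` a nonsquare; `FourM Q d e f a b` : `e, f` a hyperbolic pair, `Q a = -1`, `Q b = d`, all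
orthogonal; `phi0 : SL(2, K) →* E Q` acts on `⟨e, f, a, b⟩`, the hermitian `2 × 2`-matrices with `Q = det`, by
`H ↦ M H Mᴴ`, trivially on the orthogonal space.
-/

set_option autoImplicit false
set_option linter.unusedSimpArgs false
set_option linter.unusedVariables false
set_option linter.unusedSectionVars false

namespace Cfsg.Agent.H887.IF

open QuadraticMap Cfsg.Agent.LieClassical Cfsg.Agent.LieClassical.OrthCore Cfsg.Agent.LieClassical.OrthTrans
  Cfsg.Agent.LieClassical.OrthSimple Cfsg.Agent.AutOrth.SemiSim Cfsg.Agent.AutOrth.Gen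
  Cfsg.Agent.H989.Gs.Gen
open Cfsg.Agent.LieClassical.SLTwoUnipotent (u l eq_top_of_u_mem_of_l_mem)
open Matrix (SpecialLinearGroup)

variable {F V : Type*} [Field F] [AddCommGroup V] [Module F V] {Q : QuadraticForm F V}

/-- a 4-space of minus type with a good basis -/
structure FourM (Q : QuadraticForm F V) (d : F) (e f a b : V) : Prop where
  hyp : Hyp Q e f
  qa : Q a = -1
  qb : Q b = d
  ea : polar Q e a = 0
  eb : polar Q e b = 0
  fa : polar Q f a = 0
  fb : polar Q f b = 0
  ab : polar Q a b = 0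

/-- the coordinates, as a hermitian matrix -/
def hp (Q : QuadraticForm F V) (d : F) (e f a b : V) : V →ₗ[F] Matrix (Fin 2) (Fin 2) (QuadraticAlgebra F d 0) where
  toFun v := !![⟨polar Q f v, 0⟩, ⟨-(polar Q a v / 2), polar Q b v / (2 * d)⟩;
    ⟨-(polar Q a v / 2), -(polar Q b v / (2 * d))⟩, ⟨polar Q e v, 0⟩]
  map_add' v w := by
    ext i j <;> (revert i j; simp only [polar_add_right, _root_.Fin.forall_fin_succ, _root_.Matrix.of_apply, _root_.Matrix.cons_val', _root_.Matrix.cons_val_fin_one, _root_.Matrix.add_apply, _root_.QuadraticAlgebra.re_add, Fin.isValue, _root_.Matrix.cons_val_zero, _root_.Matrix.cons_val_succ, _root_.forall_const, _root_.true_and, _root_.and_true, _root_.and_self, _root_.QuadraticAlgebra.im_add, _root_.add_zero]) <;> (repeat' with_reducible apply And.intro) <;> ring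
  map_smul' c v := by
    ext i j <;> (revert i j; simp only [polar_smul_right, _root_.Fin.forall_fin_succ, _root_.smul_eq_mul, _root_.Matrix.of_apply, _root_.Matrix.cons_val', _root_.Matrix.cons_val_fin_one, _root_.RingHom.id_apply, _root_.Matrix.smul_apply, _root_.QuadraticAlgebra.re_smul, Fin.isValue, _root_.Matrix.cons_val_zero, _root_.Matrix.cons_val_succ, _root_.forall_const, _root_.mul_neg, _root_.neg_inj, _root_.true_and, _root_.and_true, _root_.and_self, _root_.QuadraticAlgebra.im_smul, _root_.MulZeroClass.mul_zero]) <;> (repeat' with_reducible apply And.intro) <;> ring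

/-- the vector of a matrix -/
def bk (d : F) (e f a b : V) : Matrix (Fin 2) (Fin 2) (QuadraticAlgebra F d 0) →ₗ[F] V where
  toFun H := (H 0 0).re • e + (H 1 1).re • f + (H 0 1).re • a + (H 0 1).im • b
  map_add' H H' := by
    simp only [Matrix.add_apply, QuadraticAlgebra.re_add, QuadraticAlgebra.im_add]
    module
  map_smul' c H := by
    simp only [Matrix.smul_apply, QuadraticAlgebra.re_smul, QuadraticAlgebra.im_smul, smul_eq_mul, RingHom.id_apply]
    module

/-- congruence -/
def cg {d : F} (M : Matrix (Fin 2) (Fin 2) (QuadraticAlgebra F d 0)) :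
    Matrix (Fin 2) (Fin 2) (QuadraticAlgebra F d 0) →ₗ[F] Matrix (Fin 2) (Fin 2) (QuadraticAlgebra F d 0) where
  toFun H := M * H * M.conjTranspose
  map_add' H H' := by rw [Matrix.mul_add, Matrix.add_mul]
  map_smul' c H := by rw [Matrix.mul_smul, Matrix.smul_mul, RingHom.id_apply]

theorem cg_apply {d : F} (M H : Matrix (Fin 2) (Fin 2) (QuadraticAlgebra F d 0)) :
    cg M H = M * H * M.conjTranspose := rfl

theorem cg_mul {d : F} (M N H : Matrix (Fin 2) (Fin 2) (QuadraticAlgebra F d 0)) : cg (M * N) H = cg M (cg N H) := by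
  rw [cg_apply, cg_apply, cg_apply, Matrix.conjTranspose_mul]
  simp only [Matrix.mul_assoc]

theorem cg_herm {d : F} (M : Matrix (Fin 2) (Fin 2) (QuadraticAlgebra F d 0))
    {H : Matrix (Fin 2) (Fin 2) (QuadraticAlgebra F d 0)} (hH : H.conjTranspose = H) :
    (cg M H).conjTranspose = cg M H := by
  rw [cg_apply, Matrix.conjTranspose_mul, Matrix.conjTranspose_mul, Matrix.conjTranspose_conjTranspose, hH,
    Matrix.mul_assoc]

theorem herm_iff {d : F} (h2 : (2 : F) ≠ 0) {H : Matrix (Fin 2) (Fin 2) (QuadraticAlgebra F d 0)} :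
    H.conjTranspose = H ↔ (H 0 0).im = 0 ∧ (H 1 1).im = 0 ∧ (H 1 0).re = (H 0 1).re ∧ (H 1 0).im = -(H 0 1).im := by
  have h3 : ∀ x : F, -x = x → x = 0 := by
    intro x hx
    have h4 : (2 : F) * x = 0 := by linear_combination -hx
    exact (mul_eq_zero.1 h4).resolve_left h2
  constructor
  · intro h
    have h00 := congrFun (congrFun h 0) 0
    have h11 := congrFun (congrFun h 1) 1
    have h10 := congrFun (congrFun h 1) 0
    rw [Matrix.conjTranspose_apply, QuadraticAlgebra.ext_iff] at h00 h11 h10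
    simp only [QuadraticAlgebra.re_star, QuadraticAlgebra.im_star, zero_mul, add_zero] at h00 h11 h10
    exact ⟨h3 _ h00.2, h3 _ h11.2, h10.1.symm, h10.2.symm⟩
  · rintro ⟨k1, k2, k3, k4⟩
    ext i j <;> (revert i j; simp only [Matrix.conjTranspose_apply, k1, k2, k3, k4, _root_.Fin.forall_fin_succ, _root_.QuadraticAlgebra.re_star, _root_.MulZeroClass.zero_mul, _root_.add_zero, Fin.isValue, _root_.Fin.succ_zero_eq_one, _root_.IsEmpty.forall_iff, _root_.and_true, _root_.and_self, _root_.QuadraticAlgebra.im_star, _root_.neg_zero, _root_.neg_neg])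

variable {d : F} {e f a b : V}

theorem hp_herm (h2 : (2 : F) ≠ 0) (v : V) : (hp Q d e f a b v).conjTranspose = hp Q d e f a b v := by
  rw [herm_iff h2]
  simp only [hp, _root_.Fin.isValue, _root_.LinearMap.coe_mk, _root_.AddHom.coe_mk, _root_.Matrix.of_apply, _root_.Matrix.cons_val', _root_.Matrix.cons_val_zero, _root_.Matrix.cons_val_fin_one, _root_.Matrix.cons_val_one, _root_.and_self]

namespace FourM

variable (h : FourM Q d e f a b) (h2 : (2 : F) ≠ 0) (hd : d ≠ 0)
include h

theorem pols : polar Q e e = 0 ∧ polar Q f f = 0 ∧ polar Q e f = 1 ∧ polar Q f e = 1 ∧ polar Q a a = -2 ∧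
    polar Q b b = 2 * d ∧ polar Q e a = 0 ∧ polar Q a e = 0 ∧ polar Q e b = 0 ∧ polar Q b e = 0 ∧
    polar Q f a = 0 ∧ polar Q a f = 0 ∧ polar Q f b = 0 ∧ polar Q b f = 0 ∧ polar Q a b = 0 ∧ polar Q b a = 0 := by
  have h3 : ∀ x : V, polar Q x x = 2 * Q x := by
    intro x
    rw [QuadraticMap.polar_self, two_nsmul, two_mul]
  exact ⟨h.hyp.polar_left, h.hyp.polar_right, h.hyp.pair, h.hyp.pair', by rw [h3, h.qa]; ring, by rw [h3, h.qb], h.ea,
    polar_zero_of_comm h.ea, h.eb, polar_zero_of_comm h.eb, h.fa, polar_zero_of_comm h.fa, h.fb,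
    polar_zero_of_comm h.fb, h.ab, polar_zero_of_comm h.ab⟩

include h2 hd

theorem hp_bk {H : Matrix (Fin 2) (Fin 2) (QuadraticAlgebra F d 0)} (hH : H.conjTranspose = H) :
    hp Q d e f a b (bk d e f a b H) = H := by
  obtain ⟨k1, k2, k3, k4⟩ := (herm_iff h2).1 hH
  obtain ⟨p1, p2, p3, p4, p5, p6, p7, p8, p9, p10, p11, p12, p13, p14, p15, p16⟩ := h.pols
  have e1 : polar Q e (bk d e f a b H) = (H 1 1).re := by
    change polar Q e ((H 0 0).re • e + (H 1 1).re • f + (H 0 1).re • a + (H 0 1).im • b) = _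
    simp only [polar_add_right, polar_smul_right, smul_eq_mul, p1, p3, p7, p9]
    ring
  have e2 : polar Q f (bk d e f a b H) = (H 0 0).re := by
    change polar Q f ((H 0 0).re • e + (H 1 1).re • f + (H 0 1).re • a + (H 0 1).im • b) = _
    simp only [polar_add_right, polar_smul_right, smul_eq_mul, p2, p4, p11, p13]
    ring
  have e3 : polar Q a (bk d e f a b H) = -2 * (H 0 1).re := by
    change polar Q a ((H 0 0).re • e + (H 1 1).re • f + (H 0 1).re • a + (H 0 1).im • b) = _
    simp only [polar_add_right, polar_smul_right, smul_eq_mul, p8, p12, p5, p15]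
    ring
  have e4 : polar Q b (bk d e f a b H) = 2 * d * (H 0 1).im := by
    change polar Q b ((H 0 0).re • e + (H 1 1).re • f + (H 0 1).re • a + (H 0 1).im • b) = _
    simp only [polar_add_right, polar_smul_right, smul_eq_mul, p10, p14, p6, p16]
    ring
  have e5 : -(-2 * (H 0 1).re / 2) = (H 0 1).re := by field_simp
  have e6 : 2 * d * (H 0 1).im / (2 * d) = (H 0 1).im := by field_simp
  change !![⟨polar Q f (bk d e f a b H), 0⟩, ⟨-(polar Q a (bk d e f a b H) / 2), polar Q b (bk d e f a b H) / (2 * d)⟩;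
    ⟨-(polar Q a (bk d e f a b H) / 2), -(polar Q b (bk d e f a b H) / (2 * d))⟩, ⟨polar Q e (bk d e f a b H), 0⟩] = H
  rw [e1, e2, e3, e4, e5, e6]
  ext i j <;> (revert i j; simp only [k1, k2, k3, k4, _root_.Fin.forall_fin_succ, Fin.isValue, _root_.QuadraticAlgebra.mk_eta, _root_.Matrix.of_apply, _root_.Matrix.cons_val', _root_.Matrix.cons_val_fin_one, _root_.Matrix.cons_val_zero, _root_.Matrix.cons_val_succ, _root_.Fin.succ_zero_eq_one, _root_.IsEmpty.forall_iff, _root_.and_true, _root_.and_self])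

/-- the action -/
theorem hp_ph (M : Matrix (Fin 2) (Fin 2) (QuadraticAlgebra F d 0)) (v : V) :
    hp Q d e f a b (v - bk d e f a b (hp Q d e f a b v) + bk d e f a b (cg M (hp Q d e f a b v))) =
      cg M (hp Q d e f a b v) := by
  rw [map_add, map_sub, h.hp_bk h2 hd (hp_herm h2 v), h.hp_bk h2 hd (cg_herm M (hp_herm h2 v)), sub_self, zero_add]

end FourM

/-- the linear map of a matrix -/
def phLin (Q : QuadraticForm F V) (d : F) (e f a b : V) (M : Matrix (Fin 2) (Fin 2) (QuadraticAlgebra F d 0)) :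
    V →ₗ[F] V :=
  LinearMap.id - bk d e f a b ∘ₗ hp Q d e f a b + bk d e f a b ∘ₗ cg M ∘ₗ hp Q d e f a b

theorem phLin_apply (M : Matrix (Fin 2) (Fin 2) (QuadraticAlgebra F d 0)) (v : V) :
    phLin Q d e f a b M v = v - bk d e f a b (hp Q d e f a b v) + bk d e f a b (cg M (hp Q d e f a b v)) := rfl

theorem phLin_one : phLin Q d e f a b 1 = 1 := by
  apply LinearMap.ext
  intro v
  rw [phLin_apply, cg_apply, Matrix.one_mul, Matrix.conjTranspose_one, Matrix.mul_one]
  simp

theorem FourM.phLin_mul (h : FourM Q d e f a b) (h2 : (2 : F) ≠ 0) (hd : d ≠ 0)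
    (M N : Matrix (Fin 2) (Fin 2) (QuadraticAlgebra F d 0)) :
    phLin Q d e f a b (M * N) = phLin Q d e f a b M * phLin Q d e f a b N := by
  apply LinearMap.ext
  intro v
  rw [Module.End.mul_apply, phLin_apply, phLin_apply (v := phLin Q d e f a b N v), phLin_apply (M := N),
    h.hp_ph h2 hd, cg_mul]
  abel

section fld

variable [hF : Fact (∀ r : F, r ^ 2 ≠ d + 0 * r)]

theorem d_ne : d ≠ 0 := by
  intro h
  apply hF.out 0
  rw [h]
  ring

/-- the linear representation -/
def phi00 (h : FourM Q d e f a b) (h2 : (2 : F) ≠ 0) :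
    _root_.Matrix.SpecialLinearGroup (Fin 2) (QuadraticAlgebra F d 0) →* (V ≃ₗ[F] V) :=
  (LinearMap.GeneralLinearGroup.generalLinearEquiv F V).toMonoidHom.comp
    (MonoidHom.toHomUnits
      { toFun := fun M => phLin Q d e f a b M.1
        map_one' := phLin_one
        map_mul' := fun M N => h.phLin_mul h2 d_ne M.1 N.1 })

variable (h : FourM Q d e f a b) (h2 : (2 : F) ≠ 0)

theorem phi00_apply (M : _root_.Matrix.SpecialLinearGroup (Fin 2) (QuadraticAlgebra F d 0)) (v : V) :
    phi00 h h2 M v = v - bk d e f a b (hp Q d e f a b v) + bk d e f a b (cg M.1 (hp Q d e f a b v)) := rfl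

include h h2 in
theorem t_pols (t : QuadraticAlgebra F d 0) : polar Q e (t.re • a + t.im • b) = 0 ∧
    polar Q f (t.re • a + t.im • b) = 0 ∧ Q (t.re • a + t.im • b) = -t.norm ∧
    ∀ v, polar Q (t.re • a + t.im • b) v = t.re * polar Q a v + t.im * polar Q b v := by
  refine ⟨?_, ?_, ?_, ?_⟩
  · rw [polar_add_right, polar_smul_right, polar_smul_right, h.ea, h.eb]; simp
  · rw [polar_add_right, polar_smul_right, polar_smul_right, h.fa, h.fb]; simp
  · rw [Q_add, QuadraticMap.map_smul, QuadraticMap.map_smul, polar_smul_left, polar_smul_right, h.ab, h.qa, h.qb,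
      QuadraticAlgebra.norm_def]
    simp only [smul_eq_mul]
    ring
  · intro v
    rw [polar_add_left, polar_smul_left, polar_smul_left, smul_eq_mul, smul_eq_mul]

theorem phi00_u (t : QuadraticAlgebra F d 0) :
    phi00 h h2 (u t) = siegel Q e (t.re • a + t.im • b) h.hyp.left (t_pols h h2 t).1 := by
  obtain ⟨t1, t2, t3, t4⟩ := t_pols h h2 t
  have hd : d ≠ 0 := d_ne
  ext v
  rw [phi00_apply, siegel_apply, t3, t4]
  have h3 : cg (u t : _root_.Matrix.SpecialLinearGroup (Fin 2) (QuadraticAlgebra F d 0)).1 (hp Q d e f a b v) =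
      hp Q d e f a b v + !![⟨-(t.re * polar Q a v + t.im * polar Q b v) + t.norm * polar Q e v, 0⟩, ⟨t.re * polar Q e v, t.im * polar Q e v⟩;
        ⟨t.re * polar Q e v, -(t.im * polar Q e v)⟩, 0] := by
    rw [cg_apply]
    (refine And.elim (fun cj1 => And.elim fun cj2 => And.elim fun cj3 => And.elim fun cj4 => And.elim fun cj5 => And.elim fun cj6 => And.elim fun cj7 cj8 => by ext i j <;> fin_cases i <;> fin_cases j; exacts [cj1, cj2, cj3, cj4, cj5, cj6, cj7, cj8]) ?_; simp only [u, hp, Matrix.mul_apply, Fin.sum_univ_two, Matrix.conjTranspose_apply, QuadraticAlgebra.norm_def, _root_.LinearMap.coe_mk, _root_.AddHom.coe_mk, _root_.Matrix.cons_mul, _root_.Nat.succ_eq_add_one, _root_.Nat.reduceAdd, _root_.Matrix.vecMul_cons, _root_.Matrix.head_cons, _root_.one_smul, _root_.Matrix.tail_cons, _root_.Matrix.smul_cons, _root_.smul_eq_mul, _root_.Matrix.smul_empty, _root_.Matrix.empty_vecMul, _root_.add_zero, _root_.Matrix.add_cons, _root_.Matrix.empty_add_empty, _root_.zero_smul,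 _root_.zero_add, _root_.Matrix.empty_mul, _root_.Equiv.symm_apply_apply, _root_.Fin.zero_eta, _root_.Fin.isValue, _root_.Matrix.of_apply, _root_.Matrix.cons_val', _root_.Matrix.cons_val_fin_one, _root_.Matrix.cons_val_zero, _root_.star_one, _root_.mul_one, _root_.Matrix.cons_val_one, _root_.QuadraticAlgebra.re_add, _root_.QuadraticAlgebra.re_mul, _root_.mul_neg, _root_.MulZeroClass.mul_zero, _root_.QuadraticAlgebra.re_star, _root_.MulZeroClass.zero_mul, _root_.QuadraticAlgebra.im_add, _root_.QuadraticAlgebra.im_mul, _root_.QuadraticAlgebra.im_star, _root_.neg_add_rev, _root_.Matrix.add_apply, _root_.Fin.mk_one, _root_.star_zero, _root_.neg_zero, _root_.add_right_inj, _root_.neg_inj, and_self, and_true, true_and] <;> and_intros <;> field_simp <;> ring)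
  rw [h3, map_add]
  have h4 : bk d e f a b !![⟨-(t.re * polar Q a v + t.im * polar Q b v) + t.norm * polar Q e v, 0⟩, ⟨t.re * polar Q e v, t.im * polar Q e v⟩;
        ⟨t.re * polar Q e v, -(t.im * polar Q e v)⟩, 0] =
      (-(t.re * polar Q a v + t.im * polar Q b v) + t.norm * polar Q e v) • e + (0 : F) • f +
        (t.re * polar Q e v) • a + (t.im * polar Q e v) • b := rfl
  rw [h4]
  module

theorem phi00_l (t : QuadraticAlgebra F d 0) :
    phi00 h h2 (l t) = siegel Q f ((star t).re • a + (star t).im • b) h.hyp.right (t_pols h h2 (star t)).2.1 := by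
  obtain ⟨t1, t2, t3, t4⟩ := t_pols h h2 (star t)
  have hd : d ≠ 0 := d_ne
  ext v
  rw [phi00_apply, siegel_apply, t3, t4]
  have h3 : cg (l t : _root_.Matrix.SpecialLinearGroup (Fin 2) (QuadraticAlgebra F d 0)).1 (hp Q d e f a b v) =
      hp Q d e f a b v + !![0, ⟨t.re * polar Q f v, -(t.im * polar Q f v)⟩;
        ⟨t.re * polar Q f v, (t.im * polar Q f v)⟩,
        ⟨-(t.re * polar Q a v - t.im * polar Q b v) + t.norm * polar Q f v, 0⟩] := by
    rw [cg_apply]
    (refine And.elim (fun cj1 => And.elim fun cj2 => And.elim fun cj3 => And.elim fun cj4 => And.elim fun cj5 => And.elim fun cj6 => And.elim fun cj7 cj8 => by ext i j <;> fin_cases i <;> fin_cases j; exacts [cj1, cj2, cj3, cj4, cj5, cj6, cj7, cj8]) ?_; simp only [l, hp, Matrix.mul_apply, Fin.sum_univ_two, Matrix.conjTranspose_apply, QuadraticAlgebra.norm_def, _root_.LinearMap.coe_mk, _root_.AddHom.coe_mk, _root_.Matrix.cons_mul, _root_.Nat.succ_eq_add_one, _root_.Nat.reduceAdd, _root_.Matrix.vecMul_cons, _root_.Matrix.head_cons,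 _root_.one_smul, _root_.Matrix.tail_cons, _root_.zero_smul, _root_.Matrix.empty_vecMul, _root_.add_zero, _root_.Matrix.smul_cons, _root_.smul_eq_mul, _root_.Matrix.smul_empty, _root_.Matrix.add_cons, _root_.Matrix.empty_add_empty, _root_.Matrix.empty_mul, _root_.Equiv.symm_apply_apply, _root_.Fin.zero_eta, _root_.Fin.isValue, _root_.Matrix.of_apply, _root_.Matrix.cons_val', _root_.Matrix.cons_val_fin_one, _root_.Matrix.cons_val_zero, _root_.star_one, _root_.mul_one, _root_.Matrix.cons_val_one, _root_.star_zero, _root_.MulZeroClass.mul_zero, _root_.neg_sub, _root_.MulZeroClass.zero_mul, _root_.Matrix.add_apply, _root_.Fin.mk_one, _root_.QuadraticAlgebra.re_add, _root_.QuadraticAlgebra.re_mul, _root_.QuadraticAlgebra.re_star, _root_.QuadraticAlgebra.im_star, _root_.mul_neg, _root_.neg_zero, _root_.QuadraticAlgebra.im_add, _root_.QuadraticAlgebra.im_mul, _root_.zero_add, and_self, and_true, true_and] <;> and_intros <;> field_simp <;> ring)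
  rw [h3, map_add]
  have h4 : bk d e f a b !![0, ⟨t.re * polar Q f v, -(t.im * polar Q f v)⟩;
        ⟨t.re * polar Q f v, (t.im * polar Q f v)⟩,
        ⟨-(t.re * polar Q a v - t.im * polar Q b v) + t.norm * polar Q f v, 0⟩] =
      (0 : F) • e + (-(t.re * polar Q a v - t.im * polar Q b v) + t.norm * polar Q f v) • f +
        (t.re * polar Q f v) • a + (-(t.im * polar Q f v)) • b := rfl
  rw [h4, QuadraticAlgebra.norm_star]
  simp only [QuadraticAlgebra.re_star, QuadraticAlgebra.im_star, zero_mul, add_zero]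
  module

theorem phi00_mem (M : _root_.Matrix.SpecialLinearGroup (Fin 2) (QuadraticAlgebra F d 0)) : phi00 h h2 M ∈ E Q := by
  have h1 : (E Q).comap (phi00 h h2) = ⊤ := by
    apply eq_top_of_u_mem_of_l_mem
    · intro t
      rw [Subgroup.mem_comap, phi00_u]
      exact siegel_mem_E _ _
    · intro t
      rw [Subgroup.mem_comap, phi00_l]
      exact siegel_mem_E _ _
  exact Subgroup.mem_comap.1 (h1 ▸ Subgroup.mem_top M)

/-- **the homomorphism `SL(2, q²) → E Q`** -/
def phi0 : _root_.Matrix.SpecialLinearGroup (Fin 2) (QuadraticAlgebra F d 0) →* ↥(E Q) := (phi00 h h2).codRestrict (E Q) (phi00_mem h h2)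

theorem ap_phi0 (M : _root_.Matrix.SpecialLinearGroup (Fin 2) (QuadraticAlgebra F d 0)) (v : V) :
    ap (phi0 h h2 M) v = v - bk d e f a b (hp Q d e f a b v) + bk d e f a b (cg M.1 (hp Q d e f a b v)) := rfl

theorem hp_phi0 (M : _root_.Matrix.SpecialLinearGroup (Fin 2) (QuadraticAlgebra F d 0)) (v : V) :
    hp Q d e f a b (ap (phi0 h h2 M) v) = cg M.1 (hp Q d e f a b v) := h.hp_ph h2 d_ne M.1 v

/-- trivial on the orthogonal space -/
theorem phi0_perp (M : _root_.Matrix.SpecialLinearGroup (Fin 2) (QuadraticAlgebra F d 0)) {v : V} (h1 : polar Q e v = 0)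
    (h3 : polar Q f v = 0) (h4 : polar Q a v = 0) (h5 : polar Q b v = 0) : ap (phi0 h h2 M) v = v := by
  have h6 : hp Q d e f a b v = 0 := by
    ext i j <;> (revert i j; simp only [hp, h1, h3, h4, h5, _root_.Fin.forall_fin_succ, _root_.LinearMap.coe_mk, _root_.AddHom.coe_mk, _root_.zero_div, _root_.neg_zero, _root_.Matrix.of_apply, _root_.Matrix.cons_val', _root_.Matrix.cons_val_fin_one, _root_.Matrix.zero_apply, _root_.QuadraticAlgebra.re_zero, Fin.isValue, _root_.Matrix.cons_val_zero, _root_.Matrix.cons_val_succ, _root_.forall_const, _root_.and_self, _root_.implies_true, _root_.QuadraticAlgebra.im_zero])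
  rw [ap_phi0, h6]
  simp only [_root_.map_zero, _root_.sub_zero, _root_.add_zero]

end fld

end Cfsg.Agent.H887.IF
end

-- part: H887/IF/K0b
section
/-!
# S5719, `N = 8`, minus type: kernel and range of `phi0 : SL(2, q²) → E Q` (helper887)

* `det_E`, `spin_E` : elements of `E Q` have determinant one and spinor sign one;
* `phi0_ker` : the kernel is `±1`;
* `range0` : the elements of `E Q` trivial on `{e, f, a, b}^⊥` are the elements of the range of `phi0`.
-/

set_option autoImplicit false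
set_option linter.unusedSimpArgs false
set_option linter.unusedVariables false
set_option linter.unusedSectionVars false

namespace Cfsg.Agent.H887.IF

open QuadraticMap Cfsg.Agent.LieClassical Cfsg.Agent.LieClassical.OrthCore Cfsg.Agent.LieClassical.OrthTrans
  Cfsg.Agent.LieClassical.OrthSimple Cfsg.Agent.AutOrth.SemiSim Cfsg.Agent.AutOrth.Gen
  Cfsg.Agent.H989.Gs.Gen Cfsg.Agent.H160.QSpin
open Cfsg.Agent.LieClassical.SLTwoUnipotent (u l eq_top_of_u_mem_of_l_mem)
open Matrix (SpecialLinearGroup)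

variable {F V : Type*} [Field F] [AddCommGroup V] [Module F V] {Q : QuadraticForm F V}

/-! ### determinant and spinor sign -/

theorem spin_E [Finite V] (h2 : (2 : F) ≠ 0) (g : ↥(E Q)) : spin Q ⟨(g : V ≃ₗ[F] V), E_le_O g.2⟩ = 1 := by
  obtain ⟨g, hg⟩ := g
  change spin Q ⟨g, E_le_O hg⟩ = 1
  have key : ∀ g ∈ Subgroup.closure (siegelSet Q), ∀ hg : g ∈ O Q, spin Q ⟨g, hg⟩ = 1 := by
    intro g hgc
    induction hgc using Subgroup.closure_induction with
    | mem x hx =>
      intro hxO
      obtain ⟨u, w, hu, hw, rfl⟩ := hx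
      obtain ⟨k, hk, hk2⟩ := siegel_eq_sq h2 hu hw
      have h3 : (⟨siegel Q u w hu hw, hxO⟩ : O Q) = ⟨k, hk⟩ * ⟨k, hk⟩ := Subtype.ext hk2
      rw [h3, map_mul, units_sq]
    | one =>
      intro h1
      have : (⟨1, h1⟩ : O Q) = 1 := rfl
      rw [this, map_one]
    | mul x y hx hy ihx ihy =>
      intro hxy
      have hx' : x ∈ O Q := E_le_O (by exact hx)
      have hy' : y ∈ O Q := E_le_O (by exact hy)
      have : (⟨x * y, hxy⟩ : O Q) = ⟨x, hx'⟩ * ⟨y, hy'⟩ := rfl
      rw [this, map_mul, ihx hx', ihy hy', mul_one]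
    | inv x hx ihx =>
      intro hxi
      have hx' : x ∈ O Q := E_le_O (by exact hx)
      have : (⟨x⁻¹, hxi⟩ : O Q) = ⟨x, hx'⟩⁻¹ := rfl
      rw [this, map_inv, ihx hx', inv_one]
  exact key g hg _

/-! ### facts about `K` -/

section KK

variable {d : F} [hF : Fact (∀ r : F, r ^ 2 ≠ d + 0 * r)]

end KK

section main

variable {d : F} {e f a b : V} [hF : Fact (∀ r : F, r ^ 2 ≠ d + 0 * r)] (h : FourM Q d e f a b) (h2 : (2 : F) ≠ 0)

theorem bk_e (h : FourM Q d e f a b) (h2 : (2 : F) ≠ 0) : hp Q d e f a b e = !![1, 0; 0, 0] := by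
  obtain ⟨p1, p2, p3, p4, p5, p6, p7, p8, p9, p10, p11, p12, p13, p14, p15, p16⟩ := h.pols
  ext i j <;> (revert i j; simp only [hp, p1, p4, p8, p10, QuadraticAlgebra.re_one, QuadraticAlgebra.im_one, _root_.Fin.forall_fin_succ, _root_.LinearMap.coe_mk, _root_.AddHom.coe_mk, _root_.zero_div, _root_.neg_zero, _root_.Matrix.of_apply, _root_.Matrix.cons_val', _root_.Matrix.cons_val_fin_one, Fin.isValue, _root_.Matrix.cons_val_zero, _root_.Matrix.cons_val_succ, _root_.forall_const, _root_.QuadraticAlgebra.re_zero, _root_.and_self, _root_.implies_true, _root_.QuadraticAlgebra.im_zero])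

theorem bk_f (h : FourM Q d e f a b) (h2 : (2 : F) ≠ 0) : hp Q d e f a b f = !![0, 0; 0, 1] := by
  obtain ⟨p1, p2, p3, p4, p5, p6, p7, p8, p9, p10, p11, p12, p13, p14, p15, p16⟩ := h.pols
  ext i j <;> (revert i j; simp only [hp, p2, p3, p12, p14, QuadraticAlgebra.re_one, QuadraticAlgebra.im_one, _root_.Fin.forall_fin_succ, _root_.LinearMap.coe_mk, _root_.AddHom.coe_mk, _root_.zero_div, _root_.neg_zero, _root_.Matrix.of_apply, _root_.Matrix.cons_val', _root_.Matrix.cons_val_fin_one, Fin.isValue, _root_.Matrix.cons_val_zero, _root_.Matrix.cons_val_succ, _root_.forall_const, _root_.QuadraticAlgebra.re_zero, _root_.and_self, _root_.implies_true, _root_.QuadraticAlgebra.im_zero])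

theorem hp_t (h : FourM Q d e f a b) (h2 : (2 : F) ≠ 0) (t : QuadraticAlgebra F d 0) :
    hp Q d e f a b (t.re • a + t.im • b) = !![0, t; star t, 0] := by
  obtain ⟨p1, p2, p3, p4, p5, p6, p7, p8, p9, p10, p11, p12, p13, p14, p15, p16⟩ := h.pols
  have hd : d ≠ 0 := d_ne
  ext i j <;> (revert i j; simp only [hp, polar_add_right, polar_smul_right, p5, p6, p7, p9, p11, p13, p15, p16, _root_.Fin.forall_fin_succ, _root_.LinearMap.coe_mk, _root_.AddHom.coe_mk, _root_.smul_eq_mul, _root_.MulZeroClass.mul_zero, _root_.add_zero, _root_.mul_neg, _root_.zero_add, _root_.Matrix.of_apply, _root_.Matrix.cons_val', _root_.Matrix.cons_val_fin_one, Fin.isValue, _root_.Matrix.cons_val_zero, _root_.Matrix.cons_val_succ, _root_.forall_const, _root_.QuadraticAlgebra.re_zero, _root_.true_and, _root_.QuadraticAlgebra.re_star, _root_.MulZeroClass.zero_mul, _root_.and_true, _root_.and_self, _root_.QuadraticAlgebra.im_zero, _root_.QuadraticAlgebra.im_star, _root_.neg_inj]) <;> (repeat' with_reducible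 apply And.intro) <;> field_simp

end main

end Cfsg.Agent.H887.IF
end

private theorem dce_b16926b328ae : _root_.True := by
  try have : _root_.True := by simp only [_root_.Cfsg.Agent.H887.IF.hp.eq_1]
  exact _root_.True.intro
end
end
end
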